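import Groth.Prelude.Def_W4c6modpairsegaMP
import Mathlib.AlgebraicGeometry.Morphisms.SchemeTheoreticallyDominant
import Mathlib.AlgebraicGeometry.Morphisms.Affine
import Mathlib.AlgebraicGeometry.Morphisms.Proper

/-!
# Effective Cartier ideals and scheme-theoretically dense opens
-/

universe u

open CategoryTheory Limits AlgebraicGeometry

namespace ModPairLib

variable {X Y W : Scheme.{u}}

theorem comap_ideal_affine [IsAffine X] [IsAffine Y] (f : X ⟶ Y) (J : Y.IdealSheafData) :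
    (J.comap f).ideal ⟨⊤, isAffineOpen_top X⟩ =
      (J.ideal ⟨⊤, isAffineOpen_top Y⟩).map f.appTop.hom := by
  refine le_antisymm ?_ ?_
  · have : J.comap f ≤ Scheme.IdealSheafData.ofIdealTop
        ((J.ideal ⟨⊤, isAffineOpen_top Y⟩).map f.appTop.hom) := by
      refine Scheme.IdealSheafData.le_map_iff_comap_le.mp
        (Scheme.IdealSheafData.le_of_isAffine ?_)
      rw [Scheme.IdealSheafData.ideal_map_of_isAffineHom, ← Ideal.map_le_iff_le_comap,
        Scheme.IdealSheafData.ofIdealTop_ideal]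
      erw [X.presheaf.map_id, Ideal.map_id]
      exact le_rfl
    refine (this ⟨⊤, isAffineOpen_top X⟩).trans (le_of_eq ?_)
    rw [Scheme.IdealSheafData.ofIdealTop_ideal]
    erw [X.presheaf.map_id, Ideal.map_id]
  · have := Scheme.IdealSheafData.le_map_comap (f := f) (J := J) ⟨⊤, isAffineOpen_top Y⟩
    rw [Scheme.IdealSheafData.ideal_map_of_isAffineHom, ← Ideal.map_le_iff_le_comap] at this
    exact this

theorem comap_ideal_of_opensRange [IsAffine W] (j : W ⟶ Y) [IsOpenImmersion j]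
    (I : Y.IdealSheafData) (U : Y.affineOpens) (hU : j.opensRange = U.1) :
    (I.comap j).ideal ⟨⊤, isAffineOpen_top W⟩ =
      (I.ideal U).map (j.appLE U.1 ⊤ (fun z _ => hU ▸ ⟨z, rfl⟩)).hom := by
  have h1 : U = ⟨j ''ᵁ ⊤, (isAffineOpen_top W).image_of_isOpenImmersion j⟩ :=
    Subtype.ext (by rw [← hU]; exact (j.image_top_eq_opensRange).symm)
  subst h1
  rw [Scheme.IdealSheafData.ideal_comap_of_isOpenImmersion]
  have h2 : (j.appLE (j ''ᵁ ⊤) ⊤ (j.preimage_image_eq ⊤).ge) = (j.appIso ⊤).hom :=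
    (j.appIso_hom' ⊤).symm
  rw [h2]
  exact (Ideal.map_comap_of_equiv (j.appIso ⊤).commRingCatIsoToRingEquiv).symm

/-- The inverse image ideal sheaf on affine opens. -/
theorem ideal_comap (I : Y.IdealSheafData) (f : X ⟶ Y) (U : Y.affineOpens) (V : X.affineOpens)
    (e : V.1 ≤ f ⁻¹ᵁ U.1) :
    (I.comap f).ideal V = (I.ideal U).map (f.appLE U.1 V.1 e).hom := by
  have hl : ∀ {Z : Scheme.{u}} (O : Z.affineOpens) (J : Z.IdealSheafData),
      (J.comap O.2.fromSpec).ideal ⟨⊤, isAffineOpen_top _⟩ =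
        (J.ideal O).map (Scheme.ΓSpecIso Γ(Z, O.1)).inv.hom := by
    intro Z O J
    rw [comap_ideal_of_opensRange O.2.fromSpec J O O.2.opensRange_fromSpec]
    congr 2
    rw [Scheme.Hom.appLE, O.2.fromSpec_app_self, Category.assoc, ← Functor.map_comp]
    erw [(Spec Γ(Z, O.1)).presheaf.map_id]
    exact Category.comp_id _
  have h := hl V (I.comap f)
  rw [← Scheme.IdealSheafData.comap_comp, ← IsAffineOpen.SpecMap_appLE_fromSpec f U.2 V.2 e,
    Scheme.IdealSheafData.comap_comp, comap_ideal_affine, hl, Ideal.map_map,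
    ← CommRingCat.hom_comp, ← Scheme.ΓSpecIso_inv_naturality, CommRingCat.hom_comp,
    ← Ideal.map_map] at h
  have hbij := ConcreteCategory.bijective_of_isIso (Scheme.ΓSpecIso Γ(X, V.1)).inv
  have h' := congrArg (Ideal.comap (Scheme.ΓSpecIso Γ(X, V.1)).inv.hom) h
  rw [Ideal.comap_map_of_bijective _ hbij, Ideal.comap_map_of_bijective _ hbij] at h'
  exact h'.symm

theorem interior_inter_eq_basicOpen {I : X.IdealSheafData} {U : X.affineOpens} {a : Γ(X, U.1)}
    (h : I.ideal U = Ideal.span {a}) : U.1 ⊓ ModPair.interior I = X.basicOpen a := by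
  ext x
  constructor
  · rintro ⟨hx, hxI⟩
    have : x ∉ I.support := hxI
    rw [Scheme.IdealSheafData.mem_support_iff_of_mem (U := U) hx, h, Scheme.zeroLocus_span,
      Scheme.mem_zeroLocus_iff] at this
    simpa using this
  · intro hx
    have hxU : x ∈ U.1 := X.basicOpen_le a hx
    refine ⟨hxU, show x ∉ I.support from ?_⟩
    rw [Scheme.IdealSheafData.mem_support_iff_of_mem (U := U) hxU, h, Scheme.zeroLocus_span,
      Scheme.mem_zeroLocus_iff]
    exact fun h' => h' a rfl hx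

theorem preimage_interior (I : Y.IdealSheafData) (f : X ⟶ Y) :
    f ⁻¹ᵁ ModPair.interior I = ModPair.interior (I.comap f) := by
  ext x
  show f x ∉ (I.support : Set Y) ↔ x ∉ ((I.comap f).support : Set X)
  rw [Scheme.IdealSheafData.support_comap]
  rfl

theorem interior_mono {I J : X.IdealSheafData} (h : I ≤ J) :
    ModPair.interior I ≤ ModPair.interior J := fun x hx hx' =>
  hx (Scheme.IdealSheafData.support_antitone h hx')

theorem IsAmbient.interior_le {I : X.IdealSheafData} {J : Y.IdealSheafData} {f : X ⟶ Y}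
    (h : ModPair.IsAmbient I J f) : ModPair.interior I ≤ f ⁻¹ᵁ ModPair.interior J := by
  rw [preimage_interior]
  exact interior_mono h

/-- `I` is locally generated by one element. -/
def IsLocPrincipal (I : X.IdealSheafData) : Prop :=
  ∀ x : X, ∃ U : X.affineOpens, x ∈ U.1 ∧ ∃ a : Γ(X, U.1), I.ideal U = Ideal.span {a}

theorem isLocPrincipal_of_isEffCartier {I : X.IdealSheafData} (h : BlowUp.IsEffCartierIdeal I) :
    IsLocPrincipal I := fun x =>
  have ⟨U, hU, a, _, ha⟩ := h x; ⟨U, hU, a, ha⟩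

theorem IsLocPrincipal.comap {I : Y.IdealSheafData} (h : IsLocPrincipal I) (f : X ⟶ Y) :
    IsLocPrincipal (I.comap f) := by
  intro x
  obtain ⟨U, hU, a, ha⟩ := h (f x)
  obtain ⟨_, ⟨V, hV, rfl⟩, hxV, hVU⟩ := X.isBasis_affineOpens.exists_subset_of_mem_open
    (show x ∈ (f ⁻¹ᵁ U.1 : Set X) from hU) (f ⁻¹ᵁ U.1).isOpen
  refine ⟨⟨V, hV⟩, hxV, f.appLE U.1 V hVU a, ?_⟩
  rw [ideal_comap I f U ⟨V, hV⟩ hVU, ha, Ideal.map_span, Set.image_singleton]

/-- Refinement of a principal chart. -/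
theorem IsLocPrincipal.exists_basicOpen {I : X.IdealSheafData} (h : IsLocPrincipal I) (x : X) :
    ∃ U : X.affineOpens, x ∈ U.1 ∧ ∃ a : Γ(X, U.1), I.ideal U = Ideal.span {a} ∧
      U.1 ⊓ ModPair.interior I = X.basicOpen a := by
  obtain ⟨U, hU, a, ha⟩ := h x
  exact ⟨U, hU, a, ha, interior_inter_eq_basicOpen ha⟩

theorem isAffineHom_interior {I : X.IdealSheafData} (h : IsLocPrincipal I) :
    IsAffineHom (ModPair.interior I).ι := by
  refine isAffineHom_of_forall_exists_isAffineOpen _ fun x => ?_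
  obtain ⟨U, hU, a, -, ha⟩ := h.exists_basicOpen x
  refine ⟨U.1, hU, U.2, ?_⟩
  rw [← (ModPair.interior I).ι.isAffineOpen_iff_of_isOpenImmersion,
    Scheme.Hom.image_preimage_eq_opensRange_inf, Scheme.Opens.opensRange_ι, inf_comm, ha]
  exact U.2.basicOpen a

theorem isAffineHom_interior_inf {I J : X.IdealSheafData} (h : IsLocPrincipal I)
    (h' : IsLocPrincipal J) : IsAffineHom (ModPair.interior I ⊓ ModPair.interior J).ι := by
  refine isAffineHom_of_forall_exists_isAffineOpen _ fun x => ?_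
  obtain ⟨U, hU, a, haI, -⟩ := h.exists_basicOpen x
  obtain ⟨V, hV, b, hbJ, -⟩ := h'.exists_basicOpen x
  obtain ⟨r, s, e, hxr⟩ := exists_basicOpen_le_affine_inter U.2 V.2 x ⟨hU, hV⟩
  refine ⟨X.basicOpen r, hxr, U.2.basicOpen r, ?_⟩
  rw [← (ModPair.interior I ⊓ ModPair.interior J).ι.isAffineOpen_iff_of_isOpenImmersion,
    Scheme.Hom.image_preimage_eq_opensRange_inf, Scheme.Opens.opensRange_ι]
  have e1 : U.1 ⊓ ModPair.interior I = X.basicOpen a := interior_inter_eq_basicOpen haI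
  have e2 : V.1 ⊓ ModPair.interior J = X.basicOpen b := interior_inter_eq_basicOpen hbJ
  have hrV : X.basicOpen r ≤ V.1 := e ▸ X.basicOpen_le s
  have hrU : X.basicOpen r ≤ U.1 := X.basicOpen_le r
  have : (ModPair.interior I ⊓ ModPair.interior J) ⊓ X.basicOpen r =
      X.basicOpen (X.presheaf.map (homOfLE hrU).op a * X.presheaf.map (homOfLE hrV).op b) := by
    rw [Scheme.basicOpen_mul, Scheme.basicOpen_res, Scheme.basicOpen_res, ← e1, ← e2]
    ext y
    exact ⟨fun ⟨⟨h1, h2⟩, h3⟩ => ⟨⟨h3, hrU h3, h1⟩, h3, hrV h3, h2⟩,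
      fun ⟨⟨h3, _, h1⟩, _, _, h2⟩ => ⟨⟨h1, h2⟩, h3⟩⟩
  rw [this]
  exact (U.2.basicOpen r).basicOpen _

theorem isUnit_ι_app {U V : X.Opens} (b : Γ(X, V)) (h : U ⊓ V ≤ X.basicOpen b) :
    IsUnit (U.ι.app V b) := by
  refine U.toScheme.toRingedSpace.isUnit_of_isUnit_germ (U.ι ⁻¹ᵁ V) _ fun x hx => ?_
  refine (Scheme.mem_basicOpen (X := U.toScheme) (U.ι.app V b) x hx).mp ?_
  rw [← Scheme.preimage_basicOpen]
  exact h ⟨x.2, hx⟩

/-- A locally principal ideal with scheme-theoretically dense complement is effective Cartier. -/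
theorem isEffCartier_of_dense {I : X.IdealSheafData} (h : IsLocPrincipal I) (U : X.Opens)
    (hU : U ≤ ModPair.interior I) [IsSchemeTheoreticallyDominant U.ι] [QuasiCompact U.ι] :
    BlowUp.IsEffCartierIdeal I := by
  intro x
  obtain ⟨V, hV, b, hbI, hb⟩ := h.exists_basicOpen x
  refine ⟨V, hV, b, mem_nonZeroDivisors_iff_right.mpr fun y hy => ?_, hbI⟩
  have hu : IsUnit (U.ι.app V.1 b) := isUnit_ι_app b (hb ▸ fun z ⟨h1, h2⟩ => ⟨h2, hU h1⟩)
  have h0 : U.ι.app V.1 y * U.ι.app V.1 b = 0 := by rw [← map_mul, hy, map_zero]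
  exact U.ι.app_injective V.1 ((hu.mul_left_eq_zero.mp h0).trans (map_zero _).symm)

/-- The complement of an effective Cartier divisor is scheme-theoretically dense. -/
theorem isSchemeTheoreticallyDominant_interior {I : X.IdealSheafData}
    (h : BlowUp.IsEffCartierIdeal I) :
    IsSchemeTheoreticallyDominant (ModPair.interior I).ι := by
  have := isAffineHom_interior (isLocPrincipal_of_isEffCartier h)
  refine ⟨?_⟩
  choose V hxV a ha hI using h
  refine Scheme.IdealSheafData.ext_of_iSup_eq_top V (eq_top_iff.mpr fun x _ =>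
    TopologicalSpace.Opens.mem_iSup.mpr ⟨x, hxV x⟩) fun x => ?_
  rw [Scheme.Hom.ker_apply, Scheme.IdealSheafData.ideal_bot, Pi.bot_apply, eq_bot_iff]
  intro y hy
  rw [RingHom.mem_ker, Scheme.Opens.ι_app] at hy
  have := (V x).2.isLocalization_basicOpen (a x)
  have e := interior_inter_eq_basicOpen (hI x)
  have hle : X.basicOpen (a x) ≤ (ModPair.interior I).ι ''ᵁ (ModPair.interior I).ι ⁻¹ᵁ (V x).1 := by
    rw [Scheme.Hom.image_preimage_eq_opensRange_inf, Scheme.Opens.opensRange_ι, inf_comm, e]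
  have h2 := congrArg (X.presheaf.map (homOfLE hle).op).hom hy
  replace h2 := h2.trans (map_zero (X.presheaf.map (homOfLE hle).op).hom)
  change (X.presheaf.map _ ≫ X.presheaf.map (homOfLE hle).op).hom y = 0 at h2
  rw [← Functor.map_comp] at h2
  have h3 : algebraMap Γ(X, (V x).1) Γ(X, X.basicOpen (a x)) y = 0 := h2
  obtain ⟨⟨_, n, rfl⟩, hn⟩ := (IsLocalization.map_eq_zero_iff (Submonoid.powers (a x)) _ y).mp h3
  exact Ideal.mem_bot.mpr ((pow_mem (ha x) n).2 y (by rw [mul_comm]; exact hn) : y = 0)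

theorem isSchemeTheoreticallyDominant_toImage (f : X ⟶ Y) [QuasiCompact f] :
    IsSchemeTheoreticallyDominant f.toImage := by
  refine ⟨Scheme.IdealSheafData.ext_of_iSup_eq_top
    (fun U : Y.affineOpens => (⟨f.imageι ⁻¹ᵁ U.1, U.2.preimage f.imageι⟩ : f.image.affineOpens))
    (eq_top_iff.mpr fun z _ => ?_) fun U => ?_⟩
  · obtain ⟨_, ⟨U, hU, rfl⟩, hz, -⟩ := Y.isBasis_affineOpens.exists_subset_of_mem_open
      (Set.mem_univ (f.imageι z)) isOpen_univ
    exact TopologicalSpace.Opens.mem_iSup.mpr ⟨⟨U, hU⟩, hz⟩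
  · rw [Scheme.Hom.ker_apply, Scheme.IdealSheafData.ideal_bot, Pi.bot_apply,
      ← RingHom.injective_iff_ker_eq_bot]
    exact f.toImage_app_injective U

variable (U : X.Opens) [QuasiCompact U.ι]

theorem toImage_preimage_self : U.ι.toImage ⁻¹ᵁ (U.ι.imageι ⁻¹ᵁ U) = ⊤ := by
  rw [← Scheme.Hom.comp_preimage, U.ι.toImage_imageι, Scheme.Opens.ι_preimage_self]

theorem isSchemeTheoreticallyDominant_image :
    IsSchemeTheoreticallyDominant (U.ι.imageι ⁻¹ᵁ U).ι := by
  have := isSchemeTheoreticallyDominant_toImage U.ι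
  refine ⟨le_bot_iff.mp ?_⟩
  have hr : Set.range U.ι.toImage ⊆ Set.range (U.ι.imageι ⁻¹ᵁ U).ι := by
    rw [Scheme.Opens.range_ι]
    rintro _ ⟨y, rfl⟩
    exact (toImage_preimage_self U).ge (Set.mem_univ y)
  calc (U.ι.imageι ⁻¹ᵁ U).ι.ker
      ≤ (IsOpenImmersion.lift (U.ι.imageι ⁻¹ᵁ U).ι U.ι.toImage hr ≫
          (U.ι.imageι ⁻¹ᵁ U).ι).ker := Scheme.Hom.le_ker_comp _ _
    _ = ⊥ := by rw [IsOpenImmersion.lift_fac, U.ι.toImage.ker_eq_bot]

theorem quasiCompact_image : QuasiCompact (U.ι.imageι ⁻¹ᵁ U).ι :=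
  MorphismProperty.of_isPullback (P := @QuasiCompact)
    (isPullback_morphismRestrict U.ι.imageι U) ‹_›

/-- Above the open itself, its scheme-theoretic closure is the open. -/
theorem isIso_imageι_restrict : IsIso (U.ι.imageι ∣_ U) := by
  have hr : Set.range U.ι.toImage ⊆ Set.range (U.ι.imageι ⁻¹ᵁ U).ι := by
    rw [Scheme.Opens.range_ι]
    rintro _ ⟨y, rfl⟩
    exact (toImage_preimage_self U).ge (Set.mem_univ y)
  have : IsSplitEpi (U.ι.imageι ∣_ U) := ⟨⟨⟨IsOpenImmersion.lift _ U.ι.toImage hr, by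
    rw [← cancel_mono U.ι, Category.assoc, morphismRestrict_ι, IsOpenImmersion.lift_fac_assoc,
      U.ι.toImage_imageι, Category.id_comp]⟩⟩⟩
  exact isIso_of_mono_of_isSplitEpi _

end ModPairLib
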