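import Groth.Agent.ModPairLib.Quot

/-!
# Divisors pull back to divisors under blowing up
-/

universe u

open CategoryTheory Limits AlgebraicGeometry

namespace ModPairLib

variable {X Y : Scheme.{u}}

theorem ideal_comap_mul (I J : Y.IdealSheafData) (f : X ⟶ Y) :
    (I * J).comap f = I.comap f * J.comap f := by
  have key : ∀ x : X, ∃ (U : Y.affineOpens) (V : X.affineOpens),
      x ∈ V.1 ∧ V.1 ≤ f ⁻¹ᵁ U.1 := by
    intro x
    obtain ⟨_, ⟨U, hU, rfl⟩, hxU, -⟩ := Y.isBasis_affineOpens.exists_subset_of_mem_open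
      (Set.mem_univ (f x)) isOpen_univ
    obtain ⟨_, ⟨V, hV, rfl⟩, hxV, hVU⟩ := X.isBasis_affineOpens.exists_subset_of_mem_open
      (show x ∈ (f ⁻¹ᵁ U : Set X) from hxU) (f ⁻¹ᵁ U).isOpen
    exact ⟨⟨U, hU⟩, ⟨V, hV⟩, hxV, hVU⟩
  choose U V hV e using key
  refine Scheme.IdealSheafData.ext_of_iSup_eq_top V (eq_top_iff.mpr fun x _ =>
    TopologicalSpace.Opens.mem_iSup.mpr ⟨x, hV x⟩) fun x => ?_
  rw [ideal_comap _ f (U x) (V x) (e x), Scheme.IdealSheafData.ideal_mul,
    Scheme.IdealSheafData.ideal_mul, Pi.mul_apply, Pi.mul_apply,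
    ideal_comap I f (U x) (V x) (e x), ideal_comap J f (U x) (V x) (e x), Ideal.map_mul]

/-- A regular global section of an affine scheme is regular on every open. -/
theorem restrict_mem_nonZeroDivisors [IsAffine X] {a : Γ(X, ⊤)}
    (ha : a ∈ nonZeroDivisors Γ(X, ⊤)) (W : X.Opens) :
    (X.presheaf.map (homOfLE (le_top : W ≤ ⊤)).op).hom a ∈ nonZeroDivisors Γ(X, W) := by
  refine mem_nonZeroDivisors_iff_right.mpr fun y hy => X.IsSheaf.section_ext fun x hx => ?_
  obtain ⟨r, hrW, hxr⟩ := (isAffineOpen_top X).exists_basicOpen_le ⟨x, hx⟩ trivial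
  refine ⟨X.basicOpen r, hrW, hxr, ?_⟩
  have := (isAffineOpen_top X).isLocalization_basicOpen r
  have ha' : algebraMap Γ(X, ⊤) Γ(X, X.basicOpen r) a ∈ nonZeroDivisors _ :=
    IsLocalization.map_nonZeroDivisors_le (Submonoid.powers r) _ ⟨a, ha, rfl⟩
  have h0 := congrArg (X.presheaf.map (homOfLE hrW).op).hom hy
  rw [map_mul, map_zero, ← RingHom.comp_apply _ (X.presheaf.map (homOfLE le_top).op).hom,
    ← CommRingCat.hom_comp, ← Functor.map_comp] at h0
  exact (mem_nonZeroDivisors_iff_right.mp ha' _ h0).trans (map_zero _).symm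

/-- Near a point, a generator of the exceptional ideal comes from the centre. -/
theorem exists_chart_blowUp {b : Y ⟶ X} {C : X.IdealSheafData}
    (hE : BlowUp.IsEffCartierIdeal (C.comap b)) (y : Y) (V : X.affineOpens) (hy : b y ∈ V.1) :
    ∃ (W : Y.affineOpens) (e : W.1 ≤ b ⁻¹ᵁ V.1), y ∈ W.1 ∧
      ∃ c ∈ C.ideal V, (C.comap b).ideal W = Ideal.span {(b.appLE V.1 W.1 e).hom c} := by
  obtain ⟨U, hyU, t, -, ht⟩ := hE y
  obtain ⟨r₀, hr₀, hyr₀⟩ := U.2.exists_basicOpen_le (V := b ⁻¹ᵁ V.1) ⟨y, hy⟩ hyU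
  let D : Y.affineOpens := ⟨Y.basicOpen r₀, U.2.basicOpen r₀⟩
  set φ := (b.appLE V.1 D.1 hr₀).hom
  set t' := (Y.presheaf.map (homOfLE (Y.basicOpen_le r₀)).op).hom t
  have ht' : (C.comap b).ideal D = Ideal.span {t'} := by
    rw [← (C.comap b).map_ideal (U := D) (Y.basicOpen_le r₀), ht, Ideal.map_span,
      Set.image_singleton]; rfl
  have ht0 := generator_mem_nonZeroDivisors hE ht'
  have hmap : (C.ideal V).map φ = Ideal.span {t'} := by
    rw [← ht', ideal_comap C b V D hr₀]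
  let S : Set Γ(Y, D.1) := {z | ∃ c ∈ C.ideal V, φ c = z * t'}
  have hS : (C.ideal V).map φ ≤ Ideal.span S * Ideal.span {t'} := by
    rw [Ideal.map_le_iff_le_comap]
    intro c hc
    obtain ⟨z, hz⟩ := Ideal.mem_span_singleton'.mp (hmap ▸ Ideal.mem_map_of_mem φ hc)
    exact Ideal.mem_mul_span_singleton.mpr ⟨z, Ideal.subset_span ⟨c, hc, hz.symm⟩, hz⟩
  obtain ⟨w, hw, hwt⟩ := Ideal.mem_mul_span_singleton.mp
    (hS (hmap ▸ Ideal.mem_span_singleton_self t'))
  have hw1 : (w - 1) * t' = 0 := by rw [sub_mul, hwt, one_mul, sub_self]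
  have hST : Ideal.span S = ⊤ := (Ideal.eq_top_iff_one _).mpr
    (sub_eq_zero.mp (mem_nonZeroDivisors_iff_right.mp ht0 _ hw1) ▸ hw)
  obtain ⟨⟨z, c, hc, hcz⟩, hyz⟩ := TopologicalSpace.Opens.mem_iSup.mp
    ((D.2.self_le_iSup_basicOpen_iff.mpr hST) hyr₀)
  let W : Y.affineOpens := ⟨Y.basicOpen z, D.2.basicOpen z⟩
  have hWD : W.1 ≤ D.1 := Y.basicOpen_le z
  refine ⟨W, hWD.trans hr₀, hyz, c, hc, ?_⟩
  have hcomp : (b.appLE V.1 W.1 (hWD.trans hr₀)).hom c =
      (Y.presheaf.map (homOfLE hWD).op).hom (φ c) := by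
    rw [← RingHom.comp_apply, ← CommRingCat.hom_comp, Scheme.Hom.appLE_map]
  rw [hcomp, ← (C.comap b).map_ideal (U := W) (V := D) hWD, ht', Ideal.map_span,
    Set.image_singleton, hcz, map_mul]
  exact (Ideal.span_singleton_mul_left_unit
    (RingedSpace.isUnit_res_basicOpen Y.toRingedSpace z) _).symm

/-- Blowing up pulls regular local equations back to regular ones. -/
theorem appLE_mem_nonZeroDivisors_of_isBlowUp {b : Y ⟶ X} {C : X.IdealSheafData}
    (hb : BlowUp.IsBlowUp b C) (V : X.affineOpens) (W : Y.affineOpens) (e : W.1 ≤ b ⁻¹ᵁ V.1)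
    {c : Γ(X, V.1)} (hc : c ∈ C.ideal V)
    (hW : (C.comap b).ideal W = Ideal.span {(b.appLE V.1 W.1 e).hom c})
    {a : Γ(X, V.1)} (ha : a ∈ nonZeroDivisors Γ(X, V.1)) :
    (b.appLE V.1 W.1 e).hom a ∈ nonZeroDivisors Γ(Y, W.1) := by
  set R := Γ(Y, W.1)
  set φ := (b.appLE V.1 W.1 e).hom with hφ
  have hc0 : φ c ∈ nonZeroDivisors R := generator_mem_nonZeroDivisors hb.1 hW
  let A' := BlowUp.affineAlgebra Γ(X, V.1) (C.ideal V) c
  let α : Γ(X, V.1) →+* A' := algebraMap Γ(X, V.1) A'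
  -- the map out of the affine blow-up algebra
  let L := Localization.Away (φ c)
  have hinj : Function.Injective (algebraMap R L) :=
    IsLocalization.injective L (M := Submonoid.powers (φ c)) (Submonoid.powers_le.mpr hc0)
  letI : Algebra Γ(X, V.1) R := φ.toAlgebra
  let φL : Γ(X, V.1) →+* L := (algebraMap R L).comp φ
  let lA : Localization.Away c →+* L :=
    IsLocalization.Away.lift c (g := φL) (IsLocalization.Away.algebraMap_isUnit (φ c))
  have hlift : ∀ r : Γ(X, V.1), lA (algebraMap Γ(X, V.1) (Localization.Away c) r) = φL r :=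
    fun r => IsLocalization.Away.lift_eq c _ r
  have hlA : ∀ q : A', ∃ z : R, algebraMap R L z = lA q := by
    rintro ⟨q, hq⟩
    change q ∈ Algebra.adjoin _ _ at hq
    induction hq using Algebra.adjoin_induction with
    | mem q hq =>
      obtain ⟨x, hx, rfl⟩ := hq
      obtain ⟨z, hz⟩ := Ideal.mem_span_singleton'.mp
        (hW ▸ (ideal_comap C b V W e).ge (Ideal.mem_map_of_mem φ hx))
      refine ⟨z, ?_⟩
      have hu : IsUnit (algebraMap R L (φ c)) := IsLocalization.Away.algebraMap_isUnit (φ c)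
      refine hu.mul_left_inj.mp ?_
      have : algebraMap R L (φ c) = lA (algebraMap Γ(X, V.1) (Localization.Away c) c) :=
        (hlift c).symm
      rw [← map_mul, hz, this, ← map_mul, IsLocalization.mk'_spec]
      exact (hlift x).symm
    | algebraMap r => exact ⟨φ r, (hlift r).symm⟩
    | add p q _ _ hp hq =>
      obtain ⟨z, hz⟩ := hp; obtain ⟨w, hw⟩ := hq
      exact ⟨z + w, by rw [map_add, hz, hw]; exact (map_add lA _ _).symm⟩
    | mul p q _ _ hp hq =>
      obtain ⟨z, hz⟩ := hp; obtain ⟨w, hw⟩ := hq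
      exact ⟨z * w, by rw [map_mul, hz, hw]; exact (map_mul lA _ _).symm⟩
  choose ψ₀ hψ₀ using hlA
  let ψ : A' →+* R :=
    { toFun := ψ₀
      map_one' := hinj (by rw [hψ₀, map_one]; exact map_one lA)
      map_mul' := fun p q => hinj (by rw [map_mul, hψ₀, hψ₀, hψ₀]; exact map_mul lA _ _)
      map_zero' := hinj (by rw [hψ₀, map_zero]; exact map_zero lA)
      map_add' := fun p q => hinj (by rw [map_add, hψ₀, hψ₀, hψ₀]; exact map_add lA _ _) }
  have hψα : ψ.comp α = φ := RingHom.ext fun r => hinj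
    ((hψ₀ (α r)).trans (hlift r))
  -- regular elements of the affine blow-up algebra
  have hA0 : ∀ r : Γ(X, V.1),
      algebraMap Γ(X, V.1) (Localization.Away c) r ∈ nonZeroDivisors _ →
      α r ∈ nonZeroDivisors A' := fun r hr => mem_nonZeroDivisors_iff_right.mpr fun q hq =>
    Subtype.ext (mem_nonZeroDivisors_iff_right.mp hr q.1 (congrArg Subtype.val hq))
  have hαc : α c ∈ nonZeroDivisors A' :=
    hA0 c (IsLocalization.Away.algebraMap_isUnit c).mem_nonZeroDivisors
  have hαa : α a ∈ nonZeroDivisors A' :=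
    hA0 a (IsLocalization.map_nonZeroDivisors_le (Submonoid.powers c) _ ⟨a, ha, rfl⟩)
  have hCA : (C.ideal V).map α = Ideal.span {α c} := by
    refine le_antisymm (Ideal.map_le_iff_le_comap.mpr fun x hx => ?_)
      ((Ideal.span_singleton_le_iff_mem _).mpr (Ideal.mem_map_of_mem α hc))
    refine Ideal.mem_span_singleton'.mpr
      ⟨⟨_, Algebra.subset_adjoin ⟨x, hx, rfl⟩⟩, Subtype.ext ?_⟩
    exact IsLocalization.mk'_spec (Localization.Away c) x ⟨c, Submonoid.mem_powers c⟩
  -- the morphism from the affine blow-up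
  let Z := Spec (CommRingCat.of A')
  set g : Z ⟶ X := Spec.map (CommRingCat.ofHom α) ≫ V.2.fromSpec
  have hgle : (⊤ : Z.Opens) ≤ g ⁻¹ᵁ V.1 := fun z _ => V.2.opensRange_fromSpec ▸ ⟨_, rfl⟩
  set ε := (Scheme.ΓSpecIso (CommRingCat.of A')).inv.hom
  have hεbij : Function.Bijective ε := ConcreteCategory.bijective_of_isIso _
  have hgapp : (g.appLE V.1 ⊤ hgle).hom = ε.comp α := by
    have h1 : V.2.fromSpec.appLE V.1 ⊤ V.2.fromSpec_preimage_self.ge =
        (Scheme.ΓSpecIso Γ(X, V.1)).inv := by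
      rw [Scheme.Hom.appLE, V.2.fromSpec_app_self, Category.assoc, ← Functor.map_comp]
      erw [(Spec Γ(X, V.1)).presheaf.map_id]
      exact Category.comp_id _
    rw [← Scheme.Hom.appLE_comp_appLE (Spec.map (CommRingCat.ofHom α)) V.2.fromSpec V.1 ⊤ ⊤
      V.2.fromSpec_preimage_self.ge le_top, h1]
    have h2 := Scheme.ΓSpecIso_inv_naturality (CommRingCat.ofHom α)
    rw [show (Spec.map (CommRingCat.ofHom α)).appLE ⊤ ⊤ le_top =
      (Spec.map (CommRingCat.ofHom α)).appTop by simp [Scheme.Hom.appLE, Scheme.Hom.appTop]]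
    exact (congrArg CommRingCat.Hom.hom h2).symm.trans rfl
  have hgE : BlowUp.IsEffCartierIdeal (C.comap g) := fun z =>
    ⟨⟨⊤, isAffineOpen_top _⟩, trivial, ε (α c), mem_nonZeroDivisors_map ε hεbij hαc, by
      rw [ideal_comap C g V ⟨⊤, isAffineOpen_top _⟩ hgle, hgapp, ← Ideal.map_map, hCA,
        Ideal.map_span, Set.image_singleton]⟩
  obtain ⟨h, hh, -⟩ := hb.2 Z g hgE
  let s : Spec R ⟶ Z := Spec.map (CommRingCat.ofHom ψ)
  have hsb : s ≫ h ≫ b = W.2.fromSpec ≫ b := by
    rw [hh, ← IsAffineOpen.SpecMap_appLE_fromSpec b V.2 W.2 e]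
    show Spec.map _ ≫ Spec.map _ ≫ _ = _
    rw [← Spec.map_comp_assoc, ← CommRingCat.ofHom_comp, hψα]
    rfl
  have hfE : BlowUp.IsEffCartierIdeal (C.comap (W.2.fromSpec ≫ b)) := by
    rw [Scheme.IdealSheafData.comap_comp]
    have := isAffineHom_interior (isLocPrincipal_of_isEffCartier hb.1)
    have := isSchemeTheoreticallyDominant_interior hb.1
    have : IsSchemeTheoreticallyDominant
        (W.2.fromSpec ⁻¹ᵁ ModPair.interior (C.comap b)).ι :=
      IsSchemeTheoreticallyDominant.of_isPullback (isPullback_morphismRestrict _ _)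
    exact (comap_preimage_dense _ hb.1 _).2
  have hsh : s ≫ h = W.2.fromSpec := by
    obtain ⟨_, -, hu⟩ := hb.2 _ _ hfE
    exact (hu (s ≫ h) ((Category.assoc _ _ _).trans hsb)).trans (hu W.2.fromSpec rfl).symm
  -- regularity
  refine mem_nonZeroDivisors_iff_right.mpr fun y hy => ?_
  have hfinj : Function.Injective (W.2.fromSpec.app W.1).hom := by
    rw [W.2.fromSpec_app_self]
    exact (ConcreteCategory.bijective_of_isIso _).1
  have hha : (h.app W.1).hom (φ a) ∈ nonZeroDivisors _ := by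
    have hle : h ⁻¹ᵁ W.1 ≤ g ⁻¹ᵁ V.1 := le_top.trans hgle
    have e1 : b.appLE V.1 W.1 e ≫ h.app W.1 =
        g.appLE V.1 ⊤ hgle ≫ Z.presheaf.map (homOfLE (le_top : h ⁻¹ᵁ W.1 ≤ ⊤)).op := by
      rw [Scheme.Hom.appLE_map, Scheme.Hom.app_eq_appLE, Scheme.Hom.appLE_comp_appLE]
      simp [hh]
    have e2 := congrArg (fun m => m.hom a) e1
    simp only [CommRingCat.hom_comp, RingHom.comp_apply] at e2
    rw [hφ, e2, hgapp]
    exact restrict_mem_nonZeroDivisors (mem_nonZeroDivisors_map ε hεbij hαa) _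
  have h0 : (h.app W.1).hom y = 0 := mem_nonZeroDivisors_iff_right.mp hha _
    (by rw [← map_mul, hy, map_zero])
  refine hfinj ?_
  rw [map_zero, Scheme.Hom.congr_app hsh.symm W.1, CommRingCat.hom_comp, RingHom.comp_apply]
  have h3 : ((s ≫ h).app W.1).hom y = 0 := by
    show (s.app _).hom ((h.app W.1).hom y) = 0
    rw [h0, map_zero]
  rw [h3, map_zero]

/-- An effective Cartier divisor pulls back to one under blowing up. -/
theorem isEffCartier_comap_blowUp {b : Y ⟶ X} {C A : X.IdealSheafData}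
    (hb : BlowUp.IsBlowUp b C) (hA : BlowUp.IsEffCartierIdeal A) :
    BlowUp.IsEffCartierIdeal (A.comap b) := by
  intro y
  obtain ⟨V, hyV, a, ha, hAV⟩ := hA (b y)
  obtain ⟨W, e, hyW, c, hc, hW⟩ := exists_chart_blowUp hb.1 y V hyV
  refine ⟨W, hyW, (b.appLE V.1 W.1 e).hom a,
    appLE_mem_nonZeroDivisors_of_isBlowUp hb V W e hc hW ha, ?_⟩
  rw [ideal_comap A b V W e, hAV, Ideal.map_span, Set.image_singleton]

variable {S T : Scheme.{u}} {f : X ⟶ S} {g : T ⟶ S} {I : X.IdealSheafData}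
  {J : T.IdealSheafData}

/-- The modulus of an ambient product. -/
theorem ambProd_modulus (hT : BlowUp.IsEffCartierIdeal J) (hX : BlowUp.IsEffCartierIdeal I)
    {π : Y ⟶ ModPair.mprod f g I J} {K : Y.IdealSheafData}
    (hY : ModPair.IsAmbProd f g I J π K) :
    BlowUp.IsEffCartierIdeal K ∧
      ModPair.IsAmbient K I (π ≫ ModPair.mprodι f g I J ≫ pullback.fst f g) ∧
      ModPair.IsAmbient K J (π ≫ ModPair.mprodι f g I J ≫ pullback.snd f g) ∧
      ModPair.interior K = (π ≫ ModPair.mprodι f g I J) ⁻¹ᵁ ModPair.prodInterior f g I J := by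
  obtain ⟨hb, hK⟩ := hY
  set A := (I.comap (ModPair.mprodι f g I J ≫ pullback.fst f g)).comap π
  set B := (J.comap (ModPair.mprodι f g I J ≫ pullback.snd f g)).comap π
  set E := (ModPair.prodCentre f g I J).comap π
  have hA : BlowUp.IsEffCartierIdeal A :=
    isEffCartier_comap_blowUp hb (isEffCartier_comap_mprod_fst hX hT)
  have hB : BlowUp.IsEffCartierIdeal B :=
    isEffCartier_comap_blowUp hb (isEffCartier_comap_mprod_snd hX hT)
  have hAE : A ≤ E := Scheme.IdealSheafData.comap_mono π le_sup_left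
  have hBE : B ≤ E := Scheme.IdealSheafData.comap_mono π le_sup_right
  have hKA : K ≤ A := mul_le_of_eq hb.1 hK hBE
  have hKB : K ≤ B := mul_le_of_eq hb.1 (hK.trans (mul_comm A B)) hAE
  have hA' : A = I.comap (π ≫ ModPair.mprodι f g I J ≫ pullback.fst f g) :=
    (Scheme.IdealSheafData.comap_comp _ _ _).symm
  have hB' : B = J.comap (π ≫ ModPair.mprodι f g I J ≫ pullback.snd f g) :=
    (Scheme.IdealSheafData.comap_comp _ _ _).symm
  refine ⟨isEffCartier_of_mul hb.1 (hK.symm ▸ isEffCartier_mul hA hB), hKA.trans_eq hA',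
    hKB.trans_eq hB', ?_⟩
  have hint : ModPair.interior K = ModPair.interior A ⊓ ModPair.interior B := by
    refine le_antisymm (le_inf (interior_mono hKA) (interior_mono hKB)) fun z hz => ?_
    show z ∉ (K.support : Set Y)
    intro hzK
    have h1 : z ∈ ((K * E).support : Set Y) := by
      rw [Scheme.IdealSheafData.support_mul]; exact Or.inl hzK
    rw [hK, Scheme.IdealSheafData.support_mul] at h1
    exact h1.elim hz.1 hz.2
  rw [hint, hA', hB', ← preimage_interior, ← preimage_interior]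
  rfl

end ModPairLib
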