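import Groth.Prelude.Def_W4c6modpairsegaMP
import Mathlib.AlgebraicGeometry.Limits
import Mathlib.CategoryTheory.Limits.Preserves.Shapes.Products

/-!
# Ideal sheaves on coproducts and coproducts of modulus pairs
-/

universe u

open CategoryTheory Limits AlgebraicGeometry

namespace ModPairLib

variable {X Y : Scheme.{u}}

theorem ideal_image_eq (I : Y.IdealSheafData) (f : X ⟶ Y) [IsOpenImmersion f] (U : X.affineOpens) :
    I.ideal ⟨f ''ᵁ U, U.2.image_of_isOpenImmersion f⟩ =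
      ((I.comap f).ideal U).comap (f.appIso U).hom.hom := by
  rw [Scheme.IdealSheafData.ideal_comap_of_isOpenImmersion, Ideal.comap_comap]
  have : (f.appIso U).inv.hom.comp (f.appIso U).hom.hom = RingHom.id _ := by
    rw [← CommRingCat.hom_comp, Iso.hom_inv_id, CommRingCat.hom_id]
  rw [this, Ideal.comap_id]

theorem le_of_comap_le {ι : Type*} {Z : ι → Scheme.{u}} (f : ∀ i, Z i ⟶ Y)
    [∀ i, IsOpenImmersion (f i)] (hf : ∀ y, ∃ i z, f i z = y) {I J : Y.IdealSheafData}
    (h : ∀ i, I.comap (f i) ≤ J.comap (f i)) : I ≤ J := by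
  refine Scheme.IdealSheafData.le_of_iSup_eq_top
    (fun p : Σ i, (Z i).affineOpens ↦ ⟨f p.1 ''ᵁ p.2.1, p.2.2.image_of_isOpenImmersion (f p.1)⟩)
    ?_ ?_
  · refine top_le_iff.mp fun y _ ↦ ?_
    obtain ⟨i, z, rfl⟩ := hf y
    obtain ⟨_, ⟨U, hU, rfl⟩, hz, -⟩ := (Z i).isBasis_affineOpens.exists_subset_of_mem_open
      (Set.mem_univ z) isOpen_univ
    exact TopologicalSpace.Opens.mem_iSup.mpr ⟨⟨i, U, hU⟩, ⟨z, hz, rfl⟩⟩
  · rintro ⟨i, U⟩
    simp only [ideal_image_eq]
    exact Ideal.comap_mono (h i U)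

theorem isEffCartier_of_comap {ι : Type*} {Z : ι → Scheme.{u}} (f : ∀ i, Z i ⟶ Y)
    [∀ i, IsOpenImmersion (f i)] (hf : ∀ y, ∃ i z, f i z = y) {I : Y.IdealSheafData}
    (h : ∀ i, BlowUp.IsEffCartierIdeal (I.comap (f i))) : BlowUp.IsEffCartierIdeal I := by
  intro y
  obtain ⟨i, z, rfl⟩ := hf y
  obtain ⟨U, hzU, a, ha, hI⟩ := h i z
  let e := ((f i).appIso U.1).commRingCatIsoToRingEquiv
  refine ⟨⟨f i ''ᵁ U.1, U.2.image_of_isOpenImmersion (f i)⟩, ⟨z, hzU, rfl⟩, e.symm a, ?_, ?_⟩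
  · refine mem_nonZeroDivisors_iff_right.mpr fun x hx ↦ e.injective ?_
    rw [map_zero]
    apply mem_nonZeroDivisors_iff_right.mp ha
    simpa using congrArg e hx
  · rw [ideal_image_eq, hI]
    refine le_antisymm (fun x hx ↦ ?_) ?_
    · obtain ⟨c, hc⟩ := Ideal.mem_span_singleton'.mp (Ideal.mem_comap.mp hx)
      refine Ideal.mem_span_singleton'.mpr ⟨e.symm c, e.injective ?_⟩
      simp only [map_mul, RingEquiv.apply_symm_apply]
      exact hc
    · rw [Ideal.span_le, Set.singleton_subset_iff, SetLike.mem_coe, Ideal.mem_comap]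
      refine Ideal.mem_span_singleton'.mpr ⟨1, ?_⟩
      rw [one_mul]
      exact (e.apply_symm_apply a).symm

variable {σ : Type u} (g : σ → Scheme.{u})

theorem sigma_surj (y : (∐ g : Scheme.{u})) : ∃ i z, Sigma.ι g i z = y :=
  ⟨_, (sigmaOpenCover g).covers y⟩

noncomputable def sigmaIdeal (I : ∀ i, (g i).IdealSheafData) : (∐ g : Scheme.{u}).IdealSheafData :=
  (Limits.Sigma.map fun i ↦ (I i).subschemeι).ker

theorem isPullback_sigma (I : ∀ i, (g i).IdealSheafData) (i : σ) :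
    IsPullback (I i).subschemeι (Sigma.ι (fun j ↦ (I j).subscheme) i) (Sigma.ι g i)
      (Limits.Sigma.map fun j ↦ (I j).subschemeι) := by
  refine IsOpenImmersion.isPullback _ _ _ _ (by simp) ?_
  ext z
  obtain ⟨j, w, rfl⟩ := sigma_surj _ z
  have hj : (Limits.Sigma.map fun j ↦ (I j).subschemeι)
      (Sigma.ι (fun j ↦ (I j).subscheme) j w) = Sigma.ι g j ((I j).subschemeι w) := by
    rw [← Scheme.Hom.comp_apply, Limits.Sigma.ι_map, Scheme.Hom.comp_apply]
  constructor
  · rintro ⟨x, hx⟩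
    obtain ⟨rfl⟩ := (sigmaι_eq_iff g _ _ _ _).mp (hx.trans hj)
    exact ⟨w, rfl⟩
  · rintro ⟨x, hx⟩
    obtain ⟨rfl⟩ := (sigmaι_eq_iff (fun j ↦ (I j).subscheme) _ _ _ _).mp hx
    exact ⟨_, hj.symm⟩

instance quasiCompact_sigmaMap (I : ∀ i, (g i).IdealSheafData) :
    QuasiCompact (Limits.Sigma.map fun j ↦ (I j).subschemeι) := by
  refine (IsZariskiLocalAtTarget.iff_of_openCover (P := @QuasiCompact) (sigmaOpenCover g)).mpr
    fun i ↦ ?_
  have H := (isPullback_sigma g I i).flip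
  have : QuasiCompact (H.isoPullback.hom ≫
      pullback.snd (Limits.Sigma.map fun j ↦ (I j).subschemeι) (Sigma.ι g i)) := by
    rw [IsPullback.isoPullback_hom_snd]; infer_instance
  exact (MorphismProperty.cancel_left_of_respectsIso @QuasiCompact _ _).mp this

theorem comap_sigmaIdeal (I : ∀ i, (g i).IdealSheafData) (i : σ) :
    (sigmaIdeal g I).comap (Sigma.ι g i) = I i := by
  ext U : 2
  rw [Scheme.IdealSheafData.ideal_comap_of_isOpenImmersion, sigmaIdeal,
    ← Scheme.ker_ideal_of_isPullback_of_isOpenImmersion _ _ _ _ (isPullback_sigma g I i),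
    Scheme.IdealSheafData.ker_subschemeι]

variable (P : σ → ModPair.Pair.{u})

/-- The coproduct cofan. -/
noncomputable def pairCofan : Cofan P :=
  Cofan.mk
    { total := ∐ fun i ↦ (P i).total
      mod := sigmaIdeal _ fun i ↦ (P i).mod
      isEffCartier := isEffCartier_of_comap (Sigma.ι fun i ↦ (P i).total) (sigma_surj _)
        fun i ↦ by rw [comap_sigmaIdeal]; exact (P i).isEffCartier }
    fun i ↦ ⟨Sigma.ι (fun i ↦ (P i).total) i, (comap_sigmaIdeal _ (fun i ↦ (P i).mod) i).ge⟩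

/-- It is a colimit. -/
noncomputable def pairCofanIsColimit : IsColimit (pairCofan P) :=
  Cofan.IsColimit.mk _
    (fun t ↦ ⟨Sigma.desc fun i ↦ (t.inj i).hom, le_of_comap_le (Sigma.ι fun i ↦ (P i).total)
      (sigma_surj _) fun i ↦ by
        refine le_of_eq_of_le (comap_sigmaIdeal _ (fun i ↦ (P i).mod) i) ?_
        refine le_of_le_of_eq (t.inj i).cond ?_
        exact (congrArg (t.pt.mod.comap ·) (Sigma.ι_desc (fun i ↦ (t.inj i).hom) i).symm).trans
          (Scheme.IdealSheafData.comap_comp _ _ _)⟩)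
    (fun t i ↦ ModPair.Pair.Hom.ext (Sigma.ι_desc (fun i ↦ (t.inj i).hom) i))
    (fun t m hm ↦ ModPair.Pair.Hom.ext (Limits.Sigma.hom_ext _ _ fun i ↦ by
      show Sigma.ι _ i ≫ m.hom = Sigma.ι (fun i ↦ (P i).total) i ≫ Sigma.desc _
      rw [Sigma.ι_desc]
      exact congrArg ModPair.Pair.Hom.hom (hm i)))

theorem hasColimitsOfShape (σ : Type u) :
    HasColimitsOfShape (Discrete σ) ModPair.Pair.{u} := by
  refine ⟨fun F ↦ ?_⟩
  have : HasColimit (Discrete.functor (F.obj ∘ Discrete.mk)) :=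
    HasColimit.mk ⟨_, pairCofanIsColimit _⟩
  exact hasColimit_of_iso Discrete.natIsoFunctor

theorem preservesColimitsOfShape (σ : Type u) :
    PreservesColimitsOfShape (Discrete σ) ModPair.Pair.forget.{u} := by
  refine ⟨fun {F} ↦ ?_⟩
  have : PreservesColimit (Discrete.functor (F.obj ∘ Discrete.mk)) ModPair.Pair.forget.{u} :=
    preservesColimit_of_preserves_colimit_cocone (pairCofanIsColimit _)
      ((isColimitMapCoconeCofanMkEquiv _ _ _).symm (coproductIsCoproduct _))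
  exact preservesColimit_of_iso_diagram _ Discrete.natIsoFunctor.symm

end ModPairLib
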