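import Groth.Agent.ModPairLib.Basic
import Mathlib.AlgebraicGeometry.Restrict

/-!
# The minimal-case product of modulus pairs
-/

universe u

open CategoryTheory Limits AlgebraicGeometry

namespace ModPairLib

variable {S T X : Scheme.{u}} (p : X ⟶ S) (f : T ⟶ S) {IX : X.IdealSheafData} {IT : T.IdealSheafData}

theorem isAffineHom_prodInterior (hX : BlowUp.IsEffCartierIdeal IX)
    (hT : BlowUp.IsEffCartierIdeal IT) : IsAffineHom (ModPair.prodInterior p f IX IT).ι := by
  have : ModPair.prodInterior p f IX IT = ModPair.interior (IX.comap (pullback.fst p f)) ⊓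
      ModPair.interior (IT.comap (pullback.snd p f)) := by
    rw [← preimage_interior, ← preimage_interior]; rfl
  rw [this]
  exact isAffineHom_interior_inf ((isLocPrincipal_of_isEffCartier hX).comap _)
    ((isLocPrincipal_of_isEffCartier hT).comap _)

variable {p f}

theorem isEffCartier_comap_mprod_fst (hX : BlowUp.IsEffCartierIdeal IX)
    (hT : BlowUp.IsEffCartierIdeal IT) :
    BlowUp.IsEffCartierIdeal (IX.comap (ModPair.mprodι p f IX IT ≫ pullback.fst p f)) := by
  have := isAffineHom_prodInterior p f hX hT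
  have := isSchemeTheoreticallyDominant_image (ModPair.prodInterior p f IX IT)
  have := quasiCompact_image (ModPair.prodInterior p f IX IT)
  refine isEffCartier_of_dense ((isLocPrincipal_of_isEffCartier hX).comap _)
    (ModPair.mprodι p f IX IT ⁻¹ᵁ ModPair.prodInterior p f IX IT) ?_
  rw [← preimage_interior, Scheme.Hom.comp_preimage]
  exact fun z hz => hz.1

theorem isEffCartier_comap_mprod_snd (hX : BlowUp.IsEffCartierIdeal IX)
    (hT : BlowUp.IsEffCartierIdeal IT) :
    BlowUp.IsEffCartierIdeal (IT.comap (ModPair.mprodι p f IX IT ≫ pullback.snd p f)) := by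
  have := isAffineHom_prodInterior p f hX hT
  have := isSchemeTheoreticallyDominant_image (ModPair.prodInterior p f IX IT)
  have := quasiCompact_image (ModPair.prodInterior p f IX IT)
  refine isEffCartier_of_dense ((isLocPrincipal_of_isEffCartier hT).comap _)
    (ModPair.mprodι p f IX IT ⁻¹ᵁ ModPair.prodInterior p f IX IT) ?_
  rw [← preimage_interior, Scheme.Hom.comp_preimage]
  exact fun z hz => hz.2

/-- A modulus pair mapping compatibly to the fibre product lands in the closure of the interior. -/
theorem exists_lift_mprod (hX : BlowUp.IsEffCartierIdeal IX)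
    (hT : BlowUp.IsEffCartierIdeal IT) {W : Scheme.{u}} {IW : W.IdealSheafData}
    (hW : BlowUp.IsEffCartierIdeal IW) {a : W ⟶ T} {b : W ⟶ X}
    (ha : ModPair.IsAmbient IW IT a) (hb : ModPair.IsAmbient IW IX b) (e : a ≫ f = b ≫ p) :
    ∃ c : W ⟶ ModPair.mprod p f IX IT,
      c ≫ ModPair.mprodι p f IX IT = pullback.lift b a e.symm := by
  have := isAffineHom_prodInterior p f hX hT
  have := isSchemeTheoreticallyDominant_interior hW
  set l := pullback.lift b a e.symm with hl
  have hr : Set.range ((ModPair.interior IW).ι ≫ l) ⊆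
      Set.range (ModPair.prodInterior p f IX IT).ι := by
    rw [Scheme.Opens.range_ι]
    rintro _ ⟨w, rfl⟩
    refine ⟨?_, ?_⟩
    · show pullback.fst p f (l w.1) ∈ ModPair.interior IX
      rw [← Scheme.Hom.comp_apply, hl, pullback.lift_fst]
      exact IsAmbient.interior_le hb w.2
    · show pullback.snd p f (l w.1) ∈ ModPair.interior IT
      rw [← Scheme.Hom.comp_apply, hl, pullback.lift_snd]
      exact IsAmbient.interior_le ha w.2
  have hker : (ModPair.mprodι p f IX IT).ker ≤ l.ker := by
    rw [Scheme.IdealSheafData.ker_subschemeι]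
    calc (ModPair.prodInterior p f IX IT).ι.ker
        ≤ (IsOpenImmersion.lift _ _ hr ≫ (ModPair.prodInterior p f IX IT).ι).ker :=
          Scheme.Hom.le_ker_comp _ _
      _ = ((ModPair.interior IW).ι.ker).map l := by
          rw [IsOpenImmersion.lift_fac, Scheme.Hom.ker_comp]
      _ = l.ker := by
          rw [(ModPair.interior IW).ι.ker_eq_bot, Scheme.IdealSheafData.map_bot]
  exact ⟨IsClosedImmersion.lift _ l hker, IsClosedImmersion.lift_fac _ _ _⟩

theorem universal_mprod (hX : BlowUp.IsEffCartierIdeal IX) (hT : BlowUp.IsEffCartierIdeal IT)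
    (W : Scheme.{u}) (IW : W.IdealSheafData) (hW : BlowUp.IsEffCartierIdeal IW)
    (a : W ⟶ T) (b : W ⟶ X) (ha : ModPair.IsAmbient IW IT a) (hb : ModPair.IsAmbient IW IX b)
    (e : a ≫ f = b ≫ p) :
    ∃! c : W ⟶ ModPair.mprod p f IX IT,
      c ≫ ModPair.mprodι p f IX IT ≫ pullback.snd p f = a ∧
        c ≫ ModPair.mprodι p f IX IT ≫ pullback.fst p f = b ∧
        ModPair.IsAmbient IW (IX.comap (ModPair.mprodι p f IX IT ≫ pullback.fst p f)) c := by
  obtain ⟨c, hc⟩ := exists_lift_mprod hX hT hW ha hb e
  have h1 : c ≫ ModPair.mprodι p f IX IT ≫ pullback.snd p f = a := by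
    rw [reassoc_of% hc, pullback.lift_snd]
  have h2 : c ≫ ModPair.mprodι p f IX IT ≫ pullback.fst p f = b := by
    rw [reassoc_of% hc, pullback.lift_fst]
  refine ⟨c, ⟨h1, h2, ?_⟩, fun c' hc' => ?_⟩
  · show IW ≤ _
    rw [← Scheme.IdealSheafData.comap_comp, h2]
    exact hb
  · rw [← cancel_mono (ModPair.mprodι p f IX IT)]
    refine pullback.hom_ext ?_ ?_
    · rw [Category.assoc, Category.assoc, hc'.2.1, h2]
    · rw [Category.assoc, Category.assoc, hc'.1, h1]

variable {IS : S.IdealSheafData}

theorem ambient_minimal (hp : ModPair.IsAmbient IX IS p) (hf : ModPair.IsMinimal IT IS f) :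
    ModPair.IsAmbient (IX.comap (ModPair.mprodι p f IX IT ≫ pullback.fst p f)) IT
      (ModPair.mprodι p f IX IT ≫ pullback.snd p f) := by
  have hw : (ModPair.mprodι p f IX IT ≫ pullback.fst p f) ≫ p =
      (ModPair.mprodι p f IX IT ≫ pullback.snd p f) ≫ f := by
    rw [Category.assoc, Category.assoc, pullback.condition]
  show _ ≤ IT.comap _
  calc IX.comap (ModPair.mprodι p f IX IT ≫ pullback.fst p f)
      ≤ (IS.comap p).comap (ModPair.mprodι p f IX IT ≫ pullback.fst p f) :=
        Scheme.IdealSheafData.comap_mono _ hp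
    _ = (IS.comap f).comap (ModPair.mprodι p f IX IT ≫ pullback.snd p f) := by
        rw [← Scheme.IdealSheafData.comap_comp, hw, Scheme.IdealSheafData.comap_comp]
    _ = _ := by rw [← show IT = IS.comap f from hf]

theorem snd_preimage_le (hs : ModPair.IsMinimal IX IS p) (hg : ModPair.IsAmbient IT IS f) :
    pullback.snd p f ⁻¹ᵁ ModPair.interior IT ≤ pullback.fst p f ⁻¹ᵁ ModPair.interior IX := by
  intro z hz
  show pullback.fst p f z ∈ ModPair.interior IX
  rw [show IX = IS.comap p from hs, ← preimage_interior]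
  show p (pullback.fst p f z) ∈ ModPair.interior IS
  rw [← Scheme.Hom.comp_apply, pullback.condition]
  exact IsAmbient.interior_le hg hz

theorem prodInterior_eq (hs : ModPair.IsMinimal IX IS p) (hg : ModPair.IsAmbient IT IS f) :
    ModPair.prodInterior p f IX IT = pullback.snd p f ⁻¹ᵁ ModPair.interior IT :=
  inf_eq_right.mpr (snd_preimage_le hs hg)

theorem isIso_snd_restrict [hi : IsIso (p ∣_ ModPair.interior IS)]
    (hg : ModPair.IsAmbient IT IS f) :
    IsIso (pullback.snd p f ∣_ ModPair.interior IT) := by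
  set O := ModPair.interior IS
  set V := ModPair.interior IT
  have hle : V ≤ f ⁻¹ᵁ O := IsAmbient.interior_le hg
  have hr : Set.range (V.ι ≫ f) ⊆ Set.range O.ι := by
    rw [Scheme.Opens.range_ι]
    rintro _ ⟨z, rfl⟩
    exact hle z.2
  set g' := IsOpenImmersion.lift O.ι (V.ι ≫ f) hr
  have big : IsPullback (pullback.snd p f ∣_ V)
      ((pullback.snd p f ⁻¹ᵁ V).ι ≫ pullback.fst p f) (g' ≫ O.ι) p := by
    rw [IsOpenImmersion.lift_fac]
    exact (isPullback_morphismRestrict _ _).paste_vert (IsPullback.of_hasPullback p f).flip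
  have hk : Set.range ((pullback.snd p f ⁻¹ᵁ V).ι ≫ pullback.fst p f) ⊆
      Set.range (p ⁻¹ᵁ O).ι := by
    rw [Scheme.Opens.range_ι]
    rintro _ ⟨z, rfl⟩
    show p (pullback.fst p f z.1) ∈ O
    rw [← Scheme.Hom.comp_apply, pullback.condition]
    exact hle z.2
  set k := IsOpenImmersion.lift (p ⁻¹ᵁ O).ι _ hk
  have hsmall : IsPullback (pullback.snd p f ∣_ V) k g' (p ∣_ O) := by
    refine IsPullback.of_bot ?_ ?_ (isPullback_morphismRestrict p O)
    · rw [IsOpenImmersion.lift_fac]; exact big
    · rw [← cancel_mono O.ι, Category.assoc, Category.assoc, morphismRestrict_ι,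
        IsOpenImmersion.lift_fac_assoc, IsOpenImmersion.lift_fac, morphismRestrict_ι_assoc]
      simp [pullback.condition]
  exact MorphismProperty.of_isPullback (P := MorphismProperty.isomorphisms Scheme.{u})
    hsmall.flip hi

theorem isAdmBlowup_mprod (hT : BlowUp.IsEffCartierIdeal IT) (hX : BlowUp.IsEffCartierIdeal IX)
    (hs : ModPair.IsAdmBlowup IX IS p) (hg : ModPair.IsAmbient IT IS f) :
    ModPair.IsAdmBlowup (IT.comap (ModPair.mprodι p f IX IT ≫ pullback.snd p f)) IT
      (ModPair.mprodι p f IX IT ≫ pullback.snd p f) := by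
  obtain ⟨hs1, hs2, hs3⟩ := hs
  have := isAffineHom_prodInterior p f hX hT
  refine ⟨rfl, ?_, ?_⟩
  · infer_instance
  · rw [morphismRestrict_comp]
    have := isIso_snd_restrict (p := p) hg
    have h2 := isIso_imageι_restrict (ModPair.prodInterior p f IX IT)
    have : IsIso (ModPair.mprodι p f IX IT ∣_
        pullback.snd p f ⁻¹ᵁ ModPair.interior IT) :=
      ((MorphismProperty.isomorphisms Scheme.{u}).arrow_mk_iso_iff
        (morphismRestrictEq _ (prodInterior_eq hs1 hg))).mp h2
    exact IsIso.comp_isIso' this (isIso_snd_restrict (p := p) hg)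

theorem ambient_blowup (hs : ModPair.IsMinimal IX IS p) (hg : ModPair.IsAmbient IT IS f) :
    ModPair.IsAmbient (IT.comap (ModPair.mprodι p f IX IT ≫ pullback.snd p f)) IX
      (ModPair.mprodι p f IX IT ≫ pullback.fst p f) := by
  have hw : (ModPair.mprodι p f IX IT ≫ pullback.fst p f) ≫ p =
      (ModPair.mprodι p f IX IT ≫ pullback.snd p f) ≫ f := by
    rw [Category.assoc, Category.assoc, pullback.condition]
  show _ ≤ IX.comap _
  calc IT.comap (ModPair.mprodι p f IX IT ≫ pullback.snd p f)
      ≤ (IS.comap f).comap (ModPair.mprodι p f IX IT ≫ pullback.snd p f) :=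
        Scheme.IdealSheafData.comap_mono _ hg
    _ = (IS.comap p).comap (ModPair.mprodι p f IX IT ≫ pullback.fst p f) := by
        rw [← Scheme.IdealSheafData.comap_comp, ← hw, Scheme.IdealSheafData.comap_comp]
    _ = _ := by rw [← show IX = IS.comap p from hs]

end ModPairLib
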