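import Groth.Agent.ModPairLib.Coprod
import Groth.Agent.ModPairLib.MProd
import Mathlib.AlgebraicGeometry.Morphisms.Finite

/-!
# Closures of a decomposition of the interior
-/

universe u

open CategoryTheory Limits AlgebraicGeometry

namespace ModPairLib

variable {X : Scheme.{u}}

theorem isAffineHom_of_disjoint {I : X.IdealSheafData} (hI : IsLocPrincipal I) (U V : X.Opens)
    (hU : U ⊔ V = ModPair.interior I) (hd : Disjoint U V) : IsAffineHom U.ι := by
  have := isAffineHom_interior hI
  have hle : U ≤ ModPair.interior I := hU ▸ le_sup_left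
  have : IsClosedImmersion (X.homOfLE hle) := by
    refine .of_isPreimmersion _ ?_
    have h : Set.range (X.homOfLE hle) = ((ModPair.interior I).ι ⁻¹' (V : Set X))ᶜ := by
      ext z
      constructor
      · rintro ⟨w, rfl⟩ hw
        have hw' : w.1 ∈ V := by
          have h : (ModPair.interior I).ι (X.homOfLE hle w) = w.1 := by
            rw [← Scheme.Hom.comp_apply, Scheme.homOfLE_ι]; rfl
          exact (congrArg (· ∈ (V : Set X)) h).mp hw
        exact Set.disjoint_left.mp (show Disjoint (U : Set X) (V : Set X) from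
          disjoint_iff.mpr (by simpa using congrArg SetLike.coe hd.eq_bot)) w.2 hw'
      · intro hz
        have : z.1 ∈ U ⊔ V := hU.symm ▸ z.2
        exact ⟨⟨z.1, this.resolve_right hz⟩, Subtype.ext (by simp)⟩
    rw [h]
    exact (((ModPair.interior I).ι ⁻¹ᵁ V).isOpen).isClosed_compl
  rw [← X.homOfLE_ι hle]
  infer_instance

theorem isEffCartier_comap_image {I : X.IdealSheafData} (hI : IsLocPrincipal I) (U : X.Opens)
    [QuasiCompact U.ι] (hU : U ≤ ModPair.interior I) :
    BlowUp.IsEffCartierIdeal (I.comap U.ι.imageι) := by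
  have := isSchemeTheoreticallyDominant_image U
  have := quasiCompact_image U
  refine isEffCartier_of_dense (hI.comap _) (U.ι.imageι ⁻¹ᵁ U) ?_
  rw [← preimage_interior]
  exact fun z hz => hU hz

theorem isEffCartier_of_comap_at {A B : Scheme.{u}} (j : A ⟶ B) [IsOpenImmersion j]
    {K : B.IdealSheafData} (h : BlowUp.IsEffCartierIdeal (K.comap j)) (z : A) :
    ∃ U : B.affineOpens, j z ∈ U.1 ∧
      ∃ f : Γ(B, U.1), f ∈ nonZeroDivisors Γ(B, U.1) ∧ K.ideal U = Ideal.span {f} := by
  obtain ⟨U, hzU, a, ha, hI⟩ := h z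
  let e := (j.appIso U.1).commRingCatIsoToRingEquiv
  refine ⟨⟨j ''ᵁ U.1, U.2.image_of_isOpenImmersion j⟩, ⟨z, hzU, rfl⟩, e.symm a, ?_, ?_⟩
  · refine mem_nonZeroDivisors_iff_right.mpr fun x hx ↦ e.injective ?_
    rw [map_zero]
    apply mem_nonZeroDivisors_iff_right.mp ha
    simpa using congrArg e hx
  · rw [ideal_image_eq, hI]
    refine (Ideal.comap_symm (I := Ideal.span {a}) e.symm).trans ?_
    exact (Ideal.map_span _ _).trans (by rw [Set.image_singleton])

/-- A component over an open missing the other one. -/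
theorem isIso_restrict_piece {A B : Scheme.{u}} (a : A ⟶ X) (b : B ⟶ X) (W : X.Opens)
    [IsIso (a ∣_ W)] (hb : ∀ z, b z ∉ W) : IsIso (coprod.desc a b ∣_ W) := by
  have h : IsPullback (a ∣_ W) ((a ⁻¹ᵁ W).ι ≫ coprod.inl) W.ι (coprod.desc a b) := by
    refine IsOpenImmersion.isPullback _ _ _ _
      (by rw [Category.assoc, coprod.inl_desc, morphismRestrict_ι]) ?_
    ext z
    rw [Scheme.Opens.opensRange_ι]
    constructor
    · intro hz
      change coprod.desc a b z ∈ W at hz
      obtain ⟨(w | w), rfl⟩ := (coprodMk A B).surjective z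
      · rw [coprodMk_inl, ← Scheme.Hom.comp_apply, coprod.inl_desc] at hz
        exact ⟨⟨w, hz⟩, by rw [coprodMk_inl]; rfl⟩
      · rw [coprodMk_inr, ← Scheme.Hom.comp_apply, coprod.inr_desc] at hz
        exact absurd hz (hb w)
    · rintro ⟨w, rfl⟩
      show coprod.desc a b (((a ⁻¹ᵁ W).ι ≫ coprod.inl) w) ∈ W
      rw [← Scheme.Hom.comp_apply, Category.assoc, coprod.inl_desc]
      exact w.2
  have h' := isPullback_morphismRestrict (coprod.desc a b) W
  rw [← IsPullback.isoIsPullback_hom_fst _ _ h' h]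
  infer_instance

theorem isIso_restrict_piece' {A B : Scheme.{u}} (a : A ⟶ X) (b : B ⟶ X) (W : X.Opens)
    [IsIso (b ∣_ W)] (ha : ∀ z, a z ∉ W) : IsIso (coprod.desc a b ∣_ W) := by
  have e : coprod.desc a b = (coprod.braiding A B).hom ≫ coprod.desc b a := by
    refine coprod.hom_ext ?_ ?_
    · rw [coprod.braiding_hom, coprod.desc_comp, coprod.inl_desc, coprod.inl_desc, coprod.inr_desc]
    · rw [coprod.braiding_hom, coprod.desc_comp, coprod.inr_desc, coprod.inr_desc, coprod.inl_desc]
  rw [e, morphismRestrict_comp]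
  exact IsIso.comp_isIso' (IsZariskiLocalAtTarget.restrict
    (P := MorphismProperty.isomorphisms Scheme.{u})
    (inferInstance : IsIso (coprod.braiding A B).hom) _) (isIso_restrict_piece b a W ha)

theorem isIso_restrict_sup {A B : Scheme.{u}} (a : A ⟶ X) (b : B ⟶ X) (U V : X.Opens)
    (hU : IsIso (a ∣_ U)) (hV : IsIso (b ∣_ V)) (hbU : ∀ z, b z ∉ U) (haV : ∀ z, a z ∉ V) :
    IsIso (coprod.desc a b ∣_ (U ⊔ V)) := by
  let W : Bool → X.Opens := fun i => if i then U else V
  have hW : ∀ i, IsIso (coprod.desc a b ∣_ W i) := fun i => by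
    cases i
    · exact isIso_restrict_piece' a b V haV
    · exact isIso_restrict_piece a b U hbU
  refine IsZariskiLocalAtTarget.of_iSup_eq_top (P := MorphismProperty.isomorphisms Scheme.{u})
    (fun i => (U ⊔ V).ι ⁻¹ᵁ W i) ?_ ?_
  · refine eq_top_iff.mpr fun z _ => TopologicalSpace.Opens.mem_iSup.mpr ?_
    rcases z.2 with h | h
    · exact ⟨true, h⟩
    · exact ⟨false, h⟩
  · intro i
    refine ((MorphismProperty.isomorphisms Scheme.{u}).arrow_mk_iso_iff
      (morphismRestrictRestrict _ _ _ ≪≫ morphismRestrictEq _ ?_)).mpr (hW i)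
    rw [Scheme.Hom.image_preimage_eq_opensRange_inf, Scheme.Opens.opensRange_ι, inf_eq_right]
    cases i
    · exact le_sup_right
    · exact le_sup_left

theorem imageι_notMem (U W : X.Opens) [QuasiCompact U.ι] (hd : Disjoint U W)
    (z : U.ι.image) : U.ι.imageι z ∉ W := by
  intro hz
  have h1 : U.ι.imageι z ∈ closure (U : Set X) := by
    have := Set.mem_range_self (f := U.ι.imageι) z
    rw [Scheme.IdealSheafData.range_subschemeι, Scheme.Hom.support_ker,
      Scheme.Opens.range_ι] at this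
    exact this
  obtain ⟨y, hyW, hyU⟩ := mem_closure_iff.mp h1 _ W.isOpen hz
  exact Set.disjoint_left.mp (show Disjoint (U : Set X) (W : Set X) from
    disjoint_iff.mpr (by simpa using congrArg SetLike.coe hd.eq_bot)) hyU hyW

theorem isEffCartier_coprod {A B : Scheme.{u}} {K : (A ⨿ B).IdealSheafData}
    (hA : BlowUp.IsEffCartierIdeal (K.comap (coprod.inl : A ⟶ A ⨿ B)))
    (hB : BlowUp.IsEffCartierIdeal (K.comap (coprod.inr : B ⟶ A ⨿ B))) :
    BlowUp.IsEffCartierIdeal K := by
  intro z
  obtain ⟨(w | w), rfl⟩ := (coprodMk A B).surjective z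
  · rw [coprodMk_inl]
    exact isEffCartier_of_comap_at (coprod.inl : A ⟶ A ⨿ B) hA w
  · rw [coprodMk_inr]
    exact isEffCartier_of_comap_at (coprod.inr : B ⟶ A ⨿ B) hB w

theorem decomposition {I : X.IdealSheafData} (hI : BlowUp.IsEffCartierIdeal I) (U₀ U₁ : X.Opens)
    (hU : U₀ ⊔ U₁ = ModPair.interior I) (hd : Disjoint U₀ U₁) :
    BlowUp.IsEffCartierIdeal (I.comap (coprod.desc U₀.ι.imageι U₁.ι.imageι)) ∧
      ModPair.IsAdmBlowup (I.comap (coprod.desc U₀.ι.imageι U₁.ι.imageι)) I
        (coprod.desc U₀.ι.imageι U₁.ι.imageι) := by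
  have hI' := isLocPrincipal_of_isEffCartier hI
  have := isAffineHom_of_disjoint hI' U₀ U₁ hU hd
  have := isAffineHom_of_disjoint hI' U₁ U₀ ((sup_comm _ _).trans hU) hd.symm
  set p := coprod.desc U₀.ι.imageι U₁.ι.imageι
  have : IsFinite p := inferInstance
  refine ⟨?_, rfl, inferInstance, ?_⟩
  · refine isEffCartier_coprod ?_ ?_
    · rw [← Scheme.IdealSheafData.comap_comp, coprod.inl_desc]
      exact isEffCartier_comap_image hI' U₀ (hU ▸ le_sup_left)
    · rw [← Scheme.IdealSheafData.comap_comp, coprod.inr_desc]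
      exact isEffCartier_comap_image hI' U₁ (hU ▸ le_sup_right)
  · rw [← hU]
    exact isIso_restrict_sup _ _ U₀ U₁ (isIso_imageι_restrict U₀) (isIso_imageι_restrict U₁)
      (fun z => imageι_notMem U₁ U₀ hd.symm z) (fun z => imageι_notMem U₀ U₁ hd z)

end ModPairLib
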