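import Groth.Agent.ModPairLib.MProd
import Mathlib.AlgebraicGeometry.Morphisms.Separated
import Mathlib.CategoryTheory.Localization.CalculusOfFractions

/-!
# Right calculus of fractions for admissible blow-ups
-/

universe u

open CategoryTheory Limits AlgebraicGeometry ModPair

namespace ModPairLib

variable {X Y Z : Scheme.{u}}

theorem isAdmBlowup_id (I : X.IdealSheafData) : IsAdmBlowup I I (𝟙 X) :=
  ⟨(Scheme.IdealSheafData.comap_id I).symm, inferInstance, inferInstance⟩

theorem isAdmBlowup_comp {I : X.IdealSheafData} {J : Y.IdealSheafData} {K : Z.IdealSheafData}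
    {f : X ⟶ Y} {g : Y ⟶ Z} (hf : IsAdmBlowup I J f) (hg : IsAdmBlowup J K g) :
    IsAdmBlowup I K (f ≫ g) := by
  obtain ⟨hf1, hf2, hf3⟩ := hf
  obtain ⟨hg1, hg2, hg3⟩ := hg
  refine ⟨?_, inferInstance, ?_⟩
  · show I = K.comap (f ≫ g)
    rw [Scheme.IdealSheafData.comap_comp, ← show J = K.comap g from hg1]
    exact hf1
  · rw [morphismRestrict_comp]
    have e : g ⁻¹ᵁ ModPair.interior K = ModPair.interior J := by
      rw [preimage_interior, ← show J = K.comap g from hg1]
    have : IsIso (f ∣_ g ⁻¹ᵁ ModPair.interior K) :=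
      ((MorphismProperty.isomorphisms Scheme.{u}).arrow_mk_iso_iff (morphismRestrictEq f e)).mpr hf3
    exact IsIso.comp_isIso' this hg3

/-- Morphisms agreeing after an admissible blow-up of the target are equal. -/
theorem eq_of_comp_admBlowup {I : X.IdealSheafData} (hI : BlowUp.IsEffCartierIdeal I)
    {J : Y.IdealSheafData} {K : Z.IdealSheafData} {f g : X ⟶ Y} {s : Y ⟶ Z}
    (hf : IsAmbient I J f) (hg : IsAmbient I J g) (hs : IsAdmBlowup J K s)
    (h : f ≫ s = g ≫ s) : f = g := by
  obtain ⟨hs1, hs2, hs3⟩ := hs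
  have := isSchemeTheoreticallyDominant_interior hI
  set U := ModPair.interior I
  have hle : ∀ (φ : X ⟶ Y), IsAmbient I J φ →
      Set.range (U.ι ≫ φ) ⊆ Set.range (s ⁻¹ᵁ ModPair.interior K).ι := by
    intro φ hφ
    rw [Scheme.Opens.range_ι, preimage_interior, ← show J = K.comap s from hs1]
    rintro _ ⟨z, rfl⟩
    exact IsAmbient.interior_le hφ z.2
  have hUfg : U.ι ≫ f = U.ι ≫ g := by
    have e1 : IsOpenImmersion.lift _ _ (hle f hf) = IsOpenImmersion.lift _ _ (hle g hg) := by
      rw [← cancel_mono (s ∣_ ModPair.interior K), ← cancel_mono (ModPair.interior K).ι]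
      simp only [Category.assoc, morphismRestrict_ι, IsOpenImmersion.lift_fac_assoc, h]
    rw [← IsOpenImmersion.lift_fac _ _ (hle f hf), e1, IsOpenImmersion.lift_fac]
  let l : X ⟶ pullback s s := pullback.lift f g h
  let e := pullback.fst l (pullback.diagonal s)
  have hk : U.ι = pullback.lift U.ι (U.ι ≫ f) (by
      apply pullback.hom_ext
      · simp only [Category.assoc, pullback.diagonal_fst, Category.comp_id, l]; erw [pullback.lift_fst]
      · simp only [Category.assoc, pullback.diagonal_snd, Category.comp_id, l, hUfg]; erw [pullback.lift_snd]) ≫ e := (pullback.lift_fst _ _ _).symm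
  have : IsIso e := by
    rw [← e.toImage_imageι]
    have : IsIso e.imageι := by
      rw [Scheme.isIso_subschemeι_iff_eq_bot]
      refine le_bot_iff.mp ?_
      rw [← U.ι.ker_eq_bot, hk]
      exact Scheme.Hom.le_ker_comp _ _
    infer_instance
  have hc : e ≫ l = pullback.snd l (pullback.diagonal s) ≫ pullback.diagonal s := pullback.condition
  have h1 := congrArg (· ≫ pullback.fst s s) hc
  have h2 := congrArg (· ≫ pullback.snd s s) hc
  simp only [Category.assoc, pullback.diagonal_fst, pullback.diagonal_snd, l, pullback.lift_fst,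
    pullback.lift_snd] at h1 h2
  rw [← cancel_epi e, h1, h2]

theorem admBlowup_hasRightCalculusOfFractions :
    (Pair.admBlowup.{u}).HasRightCalculusOfFractions where
  id_mem P := isAdmBlowup_id P.mod
  comp_mem _ _ hf hg := isAdmBlowup_comp hf hg
  exists_rightFraction := by
    intro X Y φ
    let Y'' : Pair.{u} := ⟨_, _,
      isEffCartier_comap_mprod_snd (p := φ.s.hom) (f := φ.f.hom) Y.isEffCartier X.isEffCartier⟩
    refine ⟨⟨(⟨_, le_refl _⟩ : Y'' ⟶ X),
      isAdmBlowup_mprod X.isEffCartier Y.isEffCartier φ.hs φ.f.cond,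
      (⟨_, ambient_blowup φ.hs.1 φ.f.cond⟩ : Y'' ⟶ Y)⟩, ?_⟩
    refine Pair.Hom.ext ?_
    show (ModPair.mprodι _ _ _ _ ≫ pullback.snd _ _) ≫ φ.f.hom =
      (ModPair.mprodι _ _ _ _ ≫ pullback.fst _ _) ≫ φ.s.hom
    rw [Category.assoc, Category.assoc, pullback.condition]
  ext := by
    intro X Y Y' f₁ f₂ s hs h
    have := eq_of_comp_admBlowup X.isEffCartier f₁.cond f₂.cond hs
      (congrArg Pair.Hom.hom h)
    exact ⟨X, 𝟙 X, isAdmBlowup_id X.mod, by rw [Pair.Hom.ext this]⟩

end ModPairLib
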