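import Groth.Agent.ModPairLib.Coprod
import Groth.Agent.ModPairLib.Calculus
import Mathlib.AlgebraicGeometry.Morphisms.Proper
import Mathlib.CategoryTheory.MorphismProperty.Limits

/-!
# Coproducts of admissible blow-ups
-/

universe u

open CategoryTheory Limits AlgebraicGeometry

namespace ModPairLib

theorem isAdmBlowup_of_isIso {P Q : ModPair.Pair.{u}} (e : P ⟶ Q) [IsIso e] :
    ModPair.Pair.admBlowup e := by
  have : IsIso e.hom := (ModPair.Pair.forget.mapIso (asIso e)).isIso_hom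
  refine ⟨le_antisymm e.cond ?_, inferInstance, inferInstance⟩
  have h1 := (Scheme.IdealSheafData.map_gc (f := e.hom)).monotone_l (inv e).cond
  rw [← Scheme.IdealSheafData.comap_comp] at h1
  have h2 : e.hom ≫ (inv e).hom = 𝟙 P.total := congrArg ModPair.Pair.Hom.hom (IsIso.hom_inv_id e)
  rwa [h2, Scheme.IdealSheafData.comap_id] at h1

theorem admBlowup_respectsIso : (ModPair.Pair.admBlowup.{u}).RespectsIso :=
  MorphismProperty.RespectsIso.mk _
    (fun e _ hf => isAdmBlowup_comp (isAdmBlowup_of_isIso e.hom) hf)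
    (fun e _ hf => isAdmBlowup_comp hf (isAdmBlowup_of_isIso e.hom))

variable {σ : Type u} {g h : σ → Scheme.{u}} (φ : ∀ i, g i ⟶ h i)

theorem isPullback_sigmaMap (i : σ) :
    IsPullback (φ i) (Sigma.ι g i) (Sigma.ι h i) (Limits.Sigma.map φ) := by
  refine IsOpenImmersion.isPullback _ _ _ _ (by simp) ?_
  ext z
  obtain ⟨j, w, rfl⟩ := sigma_surj _ z
  have hj : (Limits.Sigma.map φ) (Sigma.ι g j w) = Sigma.ι h j (φ j w) := by
    rw [← Scheme.Hom.comp_apply, Limits.Sigma.ι_map, Scheme.Hom.comp_apply]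
  constructor
  · rintro ⟨x, hx⟩
    obtain ⟨rfl⟩ := (sigmaι_eq_iff h _ _ _ _).mp (hx.trans hj)
    exact ⟨w, rfl⟩
  · rintro ⟨x, hx⟩
    obtain ⟨rfl⟩ := (sigmaι_eq_iff g _ _ _ _).mp hx
    exact ⟨_, hj.symm⟩

theorem isProper_sigmaMap [∀ i, IsProper (φ i)] : IsProper (Limits.Sigma.map φ) := by
  refine (IsZariskiLocalAtTarget.iff_of_openCover (P := @IsProper) (sigmaOpenCover h)).mpr
    fun i ↦ ?_
  have H := (isPullback_sigmaMap φ i).flip
  have : IsProper (H.isoPullback.hom ≫ pullback.snd (Limits.Sigma.map φ) (Sigma.ι h i)) := by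
    rw [IsPullback.isoPullback_hom_snd]; infer_instance
  exact (MorphismProperty.cancel_left_of_respectsIso @IsProper _ _).mp this

theorem isIso_sigmaMap_restrict (V : (∐ h : Scheme.{u}).Opens)
    (hφ : ∀ i, IsIso (φ i ∣_ (Sigma.ι h i ⁻¹ᵁ V))) : IsIso (Limits.Sigma.map φ ∣_ V) := by
  show MorphismProperty.isomorphisms Scheme (Limits.Sigma.map φ ∣_ V)
  let O : σ → V.toScheme.Opens := fun i ↦ V.ι ⁻¹ᵁ (Sigma.ι h i).opensRange
  refine IsZariskiLocalAtTarget.of_iSup_eq_top (P := MorphismProperty.isomorphisms Scheme) O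
    (top_le_iff.mp fun v _ ↦ ?_) fun i ↦ ?_
  · obtain ⟨i, z, hz⟩ := sigma_surj h (V.ι v)
    exact TopologicalSpace.Opens.mem_iSup.mpr ⟨i, ⟨z, hz⟩⟩
  · let j := (Sigma.ι h i ⁻¹ᵁ V).ι ≫ Sigma.ι h i
    have he : V.ι ''ᵁ O i = j.opensRange := by
      rw [Scheme.Hom.opensRange_comp, Scheme.Opens.opensRange_ι]
      show V.ι ''ᵁ V.ι ⁻¹ᵁ _ = _
      rw [Scheme.Hom.image_preimage_eq_opensRange_inf, Scheme.Opens.opensRange_ι,
        Scheme.Hom.image_preimage_eq_opensRange_inf, inf_comm]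
    refine ((MorphismProperty.isomorphisms Scheme).arrow_mk_iso_iff
      (morphismRestrictRestrict (Limits.Sigma.map φ) V (O i))).mpr ?_
    rw [he]
    refine ((MorphismProperty.isomorphisms Scheme).arrow_mk_iso_iff
      (morphismRestrictOpensRange _ j)).mpr ?_
    have H := ((isPullback_morphismRestrict (φ i) (Sigma.ι h i ⁻¹ᵁ V)).paste_vert
      (isPullback_sigmaMap φ i)).flip
    have : IsIso (H.isoPullback.hom ≫ pullback.snd (Limits.Sigma.map φ) j) := by
      rw [IsPullback.isoPullback_hom_snd]; exact hφ i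
    exact (MorphismProperty.cancel_left_of_respectsIso (MorphismProperty.isomorphisms Scheme)
      _ _).mp this

theorem admBlowup_isStableUnderCoproductsOfShape (σ : Type u) :
    (ModPair.Pair.admBlowup.{u}).IsStableUnderCoproductsOfShape σ := by
  have := admBlowup_respectsIso.{u}
  refine MorphismProperty.IsStableUnderCoproductsOfShape.mk _ _ fun X₁ X₂ _ _ f hf ↦ ?_
  let e₁ := (colimit.isColimit (Discrete.functor X₁)).coconePointUniqueUpToIso
    (pairCofanIsColimit X₁)
  let e₂ := (colimit.isColimit (Discrete.functor X₂)).coconePointUniqueUpToIso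
    (pairCofanIsColimit X₂)
  let t : Cofan X₁ := Cofan.mk (pairCofan X₂).pt fun i ↦ f i ≫ (pairCofan X₂).inj i
  let m : (pairCofan X₁).pt ⟶ (pairCofan X₂).pt := (pairCofanIsColimit X₁).desc t
  suffices hm : ModPair.Pair.admBlowup m by
    refine ((ModPair.Pair.admBlowup.{u}).arrow_mk_iso_iff (Arrow.isoMk e₁ e₂ ?_)).mpr hm
    refine Limits.Sigma.hom_ext _ _ fun i ↦ ?_
    show Sigma.ι X₁ i ≫ e₁.hom ≫ m = Sigma.ι X₁ i ≫ Limits.Sigma.map f ≫ e₂.hom
    rw [Limits.Sigma.ι_map_assoc]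
    erw [IsColimit.comp_coconePointUniqueUpToIso_hom_assoc,
      IsColimit.comp_coconePointUniqueUpToIso_hom, (pairCofanIsColimit X₁).fac t ⟨i⟩]
    rfl
  have hm1 : m.hom = Limits.Sigma.map fun i ↦ (f i).hom := by
    refine Limits.Sigma.hom_ext _ _ fun i ↦ ?_
    exact (congrArg ModPair.Pair.Hom.hom ((pairCofanIsColimit X₁).fac t ⟨i⟩)).trans
      (Limits.Sigma.ι_map (fun i ↦ (f i).hom) i).symm
  have (i : σ) : IsProper (f i).hom := (hf i).2.1
  have hmod : (pairCofan X₁).pt.mod = (pairCofan X₂).pt.mod.comap m.hom := by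
    have key (i : σ) : ((pairCofan X₂).pt.mod.comap m.hom).comap
        (Sigma.ι (fun i ↦ (X₁ i).total) i) = (X₁ i).mod := by
      refine ((Scheme.IdealSheafData.comap_comp _ _ _).symm.trans
        (congrArg ((pairCofan X₂).pt.mod.comap ·)
          ((congrArg (Sigma.ι (fun i ↦ (X₁ i).total) i ≫ ·) hm1).trans
            (Limits.Sigma.ι_map (fun i ↦ (f i).hom) i)))).trans ?_
      refine (Scheme.IdealSheafData.comap_comp _ _ _).trans ?_
      exact (congrArg (Scheme.IdealSheafData.comap · (f i).hom)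
        (comap_sigmaIdeal _ (fun i ↦ (X₂ i).mod) i)).trans (hf i).1.symm
    refine le_antisymm m.cond (le_of_comap_le (Sigma.ι fun i ↦ (X₁ i).total) (sigma_surj _)
      fun i ↦ le_of_eq ((key i).trans ?_))
    exact (comap_sigmaIdeal _ (fun i ↦ (X₁ i).mod) i).symm
  refine ⟨hmod, ?_, ?_⟩
  · rw [hm1]; exact isProper_sigmaMap _
  · rw [hm1]
    refine isIso_sigmaMap_restrict _ _ fun i ↦ ?_
    have e : Sigma.ι (fun i ↦ (X₂ i).total) i ⁻¹ᵁ ModPair.interior (pairCofan X₂).pt.mod =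
        ModPair.interior (X₂ i).mod :=
      (preimage_interior (sigmaIdeal _ fun i ↦ (X₂ i).mod)
        (Sigma.ι (fun i ↦ (X₂ i).total) i)).trans
        (congrArg ModPair.interior (comap_sigmaIdeal _ (fun i ↦ (X₂ i).mod) i))
    have h3 := (hf i).2.2
    refine ((MorphismProperty.isomorphisms Scheme).arrow_mk_iso_iff
      (morphismRestrictEq (f i).hom e)).mpr h3

end ModPairLib
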