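import Groth.Agent.ModPairLib.Dense
import Mathlib.RingTheory.Ideal.Colon
import Mathlib.RingTheory.Localization.Finiteness

/-!
# Quotients of ideal sheaves by effective Cartier ideals
-/

universe u

open CategoryTheory AlgebraicGeometry

namespace ModPairLib

variable {X : Scheme.{u}}

theorem fg_of_isLocPrincipal {E : X.IdealSheafData} (hE : IsLocPrincipal E) (U : X.affineOpens) :
    (E.ideal U).FG := by
  let t : Set Γ(X, U.1) :=
    {r | ∃ V : X.affineOpens, X.basicOpen r ≤ V.1 ∧ ∃ a, E.ideal V = Ideal.span {a}}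
  have ht : Ideal.span t = ⊤ := by
    rw [← U.2.self_le_iSup_basicOpen_iff]
    intro x hx
    obtain ⟨V, hV, a, ha⟩ := hE x
    obtain ⟨r, s, e, hxr⟩ := exists_basicOpen_le_affine_inter U.2 V.2 x ⟨hx, hV⟩
    exact TopologicalSpace.Opens.mem_iSup.mpr
      ⟨⟨r, V, e.le.trans (X.basicOpen_le s), a, ha⟩, hxr⟩
  refine Ideal.fg_of_localizationSpan t ht ?_
  rintro ⟨r, V, hrV, a, ha⟩
  have := U.2.isLocalization_basicOpen r
  let D : X.affineOpens := ⟨X.basicOpen r, U.2.basicOpen r⟩
  have hfg : ((E.ideal U).map (algebraMap Γ(X, U.1) Γ(X, X.basicOpen r))).FG := by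
    have h1 : (E.ideal D).FG := by
      rw [← E.map_ideal (U := D) hrV, ha, Ideal.map_span]
      exact Submodule.fg_span ((Set.finite_singleton a).image _)
    exact (E.map_ideal (U := D) (V := U) (X.basicOpen_le r)) ▸ h1
  let e := IsLocalization.algEquiv (Submonoid.powers r) Γ(X, X.basicOpen r) (Localization.Away r)
  have h2 := hfg.map (e : Γ(X, X.basicOpen r) →+* Localization.Away r)
  rw [Ideal.map_map] at h2
  convert h2 using 2
  exact (AlgHom.comp_algebraMap e.toAlgHom).symm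

/-- Quotients by finitely generated ideals commute with localization at an element. -/
theorem map_colon {R S : Type u} [CommRing R] [CommRing S] [Algebra R S] (f : R)
    [IsLocalization.Away f S] (I E : Ideal R) (hE : E.FG) :
    (I.colon (E : Set R)).map (algebraMap R S) =
      (I.map (algebraMap R S)).colon (E.map (algebraMap R S) : Set S) := by
  set ρ := algebraMap R S
  refine le_antisymm ?_ ?_
  · rw [Ideal.map_le_iff_le_comap]
    intro x hx
    rw [Submodule.mem_colon] at hx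
    rw [Ideal.mem_comap, Submodule.mem_colon]
    intro e he
    have : E.map ρ ≤ (I.map ρ).colon {ρ x} := by
      rw [Ideal.map_le_iff_le_comap]
      intro z hz
      rw [Ideal.mem_comap, Submodule.mem_colon_singleton, smul_eq_mul, ← map_mul, mul_comm]
      exact Ideal.mem_map_of_mem ρ (hx z hz)
    have h := this he
    rw [Submodule.mem_colon_singleton, smul_eq_mul] at h
    rwa [smul_eq_mul, mul_comm]
  · intro y hy
    rw [Submodule.mem_colon] at hy
    obtain ⟨⟨x, s⟩, hs⟩ := IsLocalization.surj (Submonoid.powers f) y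
    obtain ⟨T, hT⟩ := hE
    have key : ∀ e ∈ T, ∃ m : ℕ, f ^ m * (x * e) ∈ I := by
      intro e he
      have heU : e ∈ E := hT ▸ Ideal.subset_span he
      have h1 := hy (ρ e) (Ideal.mem_map_of_mem ρ heU)
      rw [smul_eq_mul] at h1
      have h2 : ρ (x * e) ∈ I.map ρ := by
        rw [map_mul, show ρ x = y * ρ s from hs.symm, mul_right_comm]
        exact Ideal.mul_mem_right _ _ h1
      rw [IsLocalization.algebraMap_mem_map_algebraMap_iff (Submonoid.powers f)] at h2
      obtain ⟨_, ⟨m, rfl⟩, hm⟩ := h2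
      exact ⟨m, hm⟩
    choose! m hm using key
    have hx : f ^ T.sup m * x ∈ I.colon (E : Set R) := by
      rw [Submodule.mem_colon]
      intro z hz
      rw [smul_eq_mul]
      have : E ≤ I.colon {f ^ T.sup m * x} := by
        rw [← hT, Ideal.span_le]
        intro e he
        rw [SetLike.mem_coe, Submodule.mem_colon_singleton, smul_eq_mul]
        obtain ⟨d, hd⟩ := Nat.exists_eq_add_of_le (Finset.le_sup (f := m) he)
        rw [hd, pow_add]
        have := Ideal.mul_mem_left _ (f ^ d) (hm e he)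
        convert this using 1; ring
      have h := this hz
      rw [Submodule.mem_colon_singleton, smul_eq_mul] at h
      rwa [mul_comm]
    have hu : IsUnit (ρ (f ^ T.sup m) * ρ s) :=
      (IsLocalization.map_units (M := Submonoid.powers f) S ⟨_, T.sup m, rfl⟩).mul
        (IsLocalization.map_units S s)
    refine (Ideal.unit_mul_mem_iff_mem _ hu).mp ?_
    have e1 : ρ (f ^ T.sup m) * ρ (s : R) * y = ρ (f ^ T.sup m * x) := by
      rw [map_mul, show ρ x = y * ρ s from hs.symm]; ring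
    rw [e1]
    exact Ideal.mem_map_of_mem ρ hx

/-- The quotient `(I : E)` as an ideal sheaf, for `E` locally principal. -/
noncomputable def colon (I E : X.IdealSheafData) (hE : IsLocPrincipal E) : X.IdealSheafData where
  ideal U := (I.ideal U).colon (E.ideal U : Set Γ(X, U.1))
  map_ideal_basicOpen U f := by
    have := U.2.isLocalization_basicOpen f
    rw [← I.map_ideal (U := X.affineBasicOpen f) (V := U) (X.basicOpen_le f),
      ← E.map_ideal (U := X.affineBasicOpen f) (V := U) (X.basicOpen_le f)]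
    exact map_colon (S := Γ(X, X.basicOpen f)) f (I.ideal U) (E.ideal U) (fg_of_isLocPrincipal hE U)

theorem mem_colon_iff {I E : X.IdealSheafData} (hE : IsLocPrincipal E) {U : X.affineOpens}
    {x : Γ(X, U.1)} : x ∈ (colon I E hE).ideal U ↔ ∀ e ∈ E.ideal U, x * e ∈ I.ideal U :=
  Submodule.mem_colon

/-- A cover by charts on which two ideals are principal with regular generators. -/
theorem exists_chart {I E : X.IdealSheafData} (hI : IsLocPrincipal I) (hE : IsLocPrincipal E)
    (x : X) : ∃ U : X.affineOpens, x ∈ U.1 ∧ ∃ a e, I.ideal U = Ideal.span {a} ∧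
      E.ideal U = Ideal.span {e} := by
  obtain ⟨U, hU, a, ha⟩ := hI x
  obtain ⟨V, hV, e, he⟩ := hE x
  obtain ⟨r, s, h, hxr⟩ := exists_basicOpen_le_affine_inter U.2 V.2 x ⟨hU, hV⟩
  let D : X.affineOpens := ⟨X.basicOpen r, U.2.basicOpen r⟩
  refine ⟨D, hxr, (X.presheaf.map (homOfLE (X.basicOpen_le r)).op).hom a,
    (X.presheaf.map (homOfLE (h.le.trans (X.basicOpen_le s))).op).hom e, ?_, ?_⟩
  · rw [← I.map_ideal (U := D) (X.basicOpen_le r), ha, Ideal.map_span, Set.image_singleton]; rfl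
  · rw [← E.map_ideal (U := D) (h.le.trans (X.basicOpen_le s)), he, Ideal.map_span,
      Set.image_singleton]; rfl

theorem colon_mul {I E : X.IdealSheafData} (hE : BlowUp.IsEffCartierIdeal E) (h : I ≤ E) :
    colon I E (isLocPrincipal_of_isEffCartier hE) * E = I := by
  have hE' := hE
  choose U hU a ha he using hE'
  refine Scheme.IdealSheafData.ext_of_iSup_eq_top U (eq_top_iff.mpr fun x _ =>
    TopologicalSpace.Opens.mem_iSup.mpr ⟨x, hU x⟩) fun x => le_antisymm ?_ ?_
  · rw [Scheme.IdealSheafData.ideal_mul, Pi.mul_apply, Ideal.mul_le]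
    exact fun c hc e he => (mem_colon_iff _).mp hc e he
  · intro y hy
    obtain ⟨c, rfl⟩ := Ideal.mem_span_singleton'.mp (he x ▸ h (U x) hy)
    rw [Scheme.IdealSheafData.ideal_mul, Pi.mul_apply]
    refine Ideal.mul_mem_mul ((mem_colon_iff _).mpr fun e hev => ?_)
      (he x ▸ Ideal.mem_span_singleton_self _)
    obtain ⟨d, rfl⟩ := Ideal.mem_span_singleton'.mp (he x ▸ hev)
    rw [mul_left_comm]
    exact Ideal.mul_mem_left _ _ hy

theorem le_of_mul_le_mul {Q Q' E : X.IdealSheafData} (hE : BlowUp.IsEffCartierIdeal E)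
    (h : Q * E ≤ Q' * E) : Q ≤ Q' := by
  have hE' := hE
  choose U hU a ha he using hE'
  refine Scheme.IdealSheafData.le_of_iSup_eq_top U (eq_top_iff.mpr fun x _ =>
    TopologicalSpace.Opens.mem_iSup.mpr ⟨x, hU x⟩) fun x q hq => ?_
  have h1 : q * a x ∈ (Q' * E).ideal (U x) :=
    h (U x) (Ideal.mul_mem_mul hq (he x ▸ Ideal.mem_span_singleton_self _))
  rw [Scheme.IdealSheafData.ideal_mul, Pi.mul_apply, he x, Ideal.mem_mul_span_singleton] at h1
  obtain ⟨z, hz, hzq⟩ := h1
  have : (z - q) * a x = 0 := by rw [sub_mul, hzq, sub_self]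
  rw [← sub_eq_zero.mp (mem_nonZeroDivisors_iff_right.mp (ha x) _ this)]
  exact hz

theorem eq_of_mul_eq_mul {Q Q' E : X.IdealSheafData} (hE : BlowUp.IsEffCartierIdeal E)
    (h : Q * E = Q' * E) : Q = Q' :=
  le_antisymm (le_of_mul_le_mul hE h.le) (le_of_mul_le_mul hE h.ge)

theorem isEffCartier_mul {I J : X.IdealSheafData} (hI : BlowUp.IsEffCartierIdeal I)
    (hJ : BlowUp.IsEffCartierIdeal J) : BlowUp.IsEffCartierIdeal (I * J) := by
  intro x
  obtain ⟨U, hU, a, b, ha, hb⟩ := exists_chart (isLocPrincipal_of_isEffCartier hI)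
    (isLocPrincipal_of_isEffCartier hJ) x
  refine ⟨U, hU, a * b, mul_mem (generator_mem_nonZeroDivisors hI ha)
    (generator_mem_nonZeroDivisors hJ hb), ?_⟩
  rw [Scheme.IdealSheafData.ideal_mul, Pi.mul_apply, ha, hb,
    Ideal.span_singleton_mul_span_singleton]

theorem isEffCartier_of_mul {Q E : X.IdealSheafData} (hE : BlowUp.IsEffCartierIdeal E)
    (h : BlowUp.IsEffCartierIdeal (Q * E)) : BlowUp.IsEffCartierIdeal Q := by
  intro x
  obtain ⟨U, hU, a, e, ha, he⟩ := exists_chart (isLocPrincipal_of_isEffCartier h)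
    (isLocPrincipal_of_isEffCartier hE) x
  have he0 := generator_mem_nonZeroDivisors hE he
  rw [Scheme.IdealSheafData.ideal_mul, Pi.mul_apply, he] at ha
  obtain ⟨c, hc, hca⟩ := Ideal.mem_mul_span_singleton.mp
    (ha ▸ Ideal.mem_span_singleton_self a : a ∈ Q.ideal U * Ideal.span {e})
  have hnz : c * e ∈ nonZeroDivisors Γ(X, U.1) := hca ▸ generator_mem_nonZeroDivisors h
    (by rw [Scheme.IdealSheafData.ideal_mul, Pi.mul_apply, he, ha] : (Q * E).ideal U = Ideal.span {a})
  refine ⟨U, hU, c, (mul_mem_nonZeroDivisors.mp hnz).1,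
    le_antisymm (fun q hq => ?_) ((Ideal.span_singleton_le_iff_mem _).mpr hc)⟩
  obtain ⟨d, hd⟩ := Ideal.mem_span_singleton'.mp
    (ha ▸ Ideal.mul_mem_mul hq (Ideal.mem_span_singleton_self e) : q * e ∈ Ideal.span {a})
  rw [← hca, ← mul_assoc] at hd
  have : (d * c - q) * e = 0 := by rw [sub_mul, hd, sub_self]
  exact Ideal.mem_span_singleton'.mpr
    ⟨d, sub_eq_zero.mp (mem_nonZeroDivisors_iff_right.mp he0 _ this)⟩

theorem mul_eq_inf_of_sup_eq_top {I J : X.IdealSheafData} (h : I ⊔ J = ⊤) : I * J = I ⊓ J := by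
  ext U : 2
  rw [Scheme.IdealSheafData.ideal_mul, Scheme.IdealSheafData.ideal_inf, Pi.mul_apply]
  refine Ideal.mul_eq_inf_of_coprime ?_
  have := congrArg (fun K : X.IdealSheafData => K.ideal U) h
  simpa using this

/-- The decomposition of two divisors whose intersection is a divisor. -/
theorem exists_coprime {I₁ I₂ : X.IdealSheafData} (h₁ : BlowUp.IsEffCartierIdeal I₁)
    (h₂ : BlowUp.IsEffCartierIdeal I₂) (hE : BlowUp.IsEffCartierIdeal (I₁ ⊔ I₂)) :
    ∃ I₁' I₂' : X.IdealSheafData, BlowUp.IsEffCartierIdeal I₁' ∧ BlowUp.IsEffCartierIdeal I₂' ∧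
      I₁ = I₁' * (I₁ ⊔ I₂) ∧ I₂ = I₂' * (I₁ ⊔ I₂) ∧ I₁' ⊔ I₂' = ⊤ ∧
      ∀ D : X.IdealSheafData, D ≤ I₁ → D ≤ I₂ →
        D ≤ I₁' * I₂' * (I₁ ⊔ I₂) := by
  set E := I₁ ⊔ I₂ with hEdef
  have e₁ := colon_mul hE (le_sup_left : I₁ ≤ E)
  have e₂ := colon_mul hE (le_sup_right : I₂ ≤ E)
  set P₁ := colon I₁ E (isLocPrincipal_of_isEffCartier hE)
  set P₂ := colon I₂ E (isLocPrincipal_of_isEffCartier hE)
  have htop : P₁ ⊔ P₂ = ⊤ := eq_of_mul_eq_mul hE (by
    rw [Scheme.IdealSheafData.inf_mul, e₁, e₂, Scheme.IdealSheafData.top_mul])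
  refine ⟨P₁, P₂, isEffCartier_of_mul hE (e₁.symm ▸ h₁), isEffCartier_of_mul hE (e₂.symm ▸ h₂),
    e₁.symm, e₂.symm, htop, fun D hD₁ hD₂ => ?_⟩
  have eD := colon_mul hE (hD₁.trans le_sup_left : D ≤ E)
  rw [← eD]
  refine mul_le_mul_left ?_ E
  rw [mul_eq_inf_of_sup_eq_top htop]
  exact le_inf (le_of_mul_le_mul hE (by rw [eD, e₁]; exact hD₁))
    (le_of_mul_le_mul hE (by rw [eD, e₂]; exact hD₂))

theorem mul_le_of_eq {K E A B : X.IdealSheafData} (hE : BlowUp.IsEffCartierIdeal E)
    (h : K * E = A * B) (hB : B ≤ E) : K ≤ A := by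
  refine le_of_mul_le_mul hE (h.le.trans ?_)
  exact mul_le_mul_right hB A

end ModPairLib
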