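import Groth.Agent.ModPairLib.Basic
import Mathlib.AlgebraicGeometry.AffineTransitionLimit

/-!
# Effective Cartier ideals in cofiltered limits
-/

universe u

open CategoryTheory Limits AlgebraicGeometry

namespace ModPairLib

/-- On any affine open on which an effective Cartier ideal is principal, the generator is regular. -/
theorem generator_mem_nonZeroDivisors {X : Scheme.{u}} {I : X.IdealSheafData}
    (h : BlowUp.IsEffCartierIdeal I) {W : X.affineOpens} {a : Γ(X, W.1)}
    (ha : I.ideal W = Ideal.span {a}) : a ∈ nonZeroDivisors Γ(X, W.1) := by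
  have := isAffineHom_interior (isLocPrincipal_of_isEffCartier h)
  have := isSchemeTheoreticallyDominant_interior h
  refine mem_nonZeroDivisors_iff_right.mpr fun y hy => ?_
  have hu : IsUnit ((ModPair.interior I).ι.app W.1 a) :=
    isUnit_ι_app a (by rw [← interior_inter_eq_basicOpen ha, inf_comm])
  have h0 : (ModPair.interior I).ι.app W.1 y * (ModPair.interior I).ι.app W.1 a = 0 := by
    rw [← map_mul, hy, map_zero]
  exact (ModPair.interior I).ι.app_injective W.1
    ((hu.mul_left_eq_zero.mp h0).trans (map_zero _).symm)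

theorem mem_nonZeroDivisors_map {R S : Type u} [CommRing R] [CommRing S] (f : R →+* S)
    (hf : Function.Bijective f) {a : R} (ha : a ∈ nonZeroDivisors R) :
    f a ∈ nonZeroDivisors S := by
  refine mem_nonZeroDivisors_iff_right.mpr fun y hy => ?_
  obtain ⟨x, rfl⟩ := hf.2 y
  rw [← map_mul, ← map_zero f] at hy
  rw [mem_nonZeroDivisors_iff_right.mp ha x (hf.1 hy), map_zero]

/-- A section regular at every stage is regular on an affine limit. -/
theorem nonZeroDivisor_of_isLimit {I : Type u} [SmallCategory I] [IsCofiltered I]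
    (D : I ⥤ Scheme.{u}) (c : Cone D) (hc : IsLimit c) [∀ i, IsAffine (D.obj i)] (i : I)
    (a : Γ(D.obj i, ⊤)) (h : ∀ (j : I) (f : j ⟶ i), (D.map f).appTop a ∈ nonZeroDivisors Γ(D.obj j, ⊤)) :
    (c.π.app i).appTop a ∈ nonZeroDivisors Γ(c.pt, ⊤) := by
  refine mem_nonZeroDivisors_iff_right.mpr fun y hy => ?_
  obtain ⟨j, t, rfl⟩ := exists_appTop_π_eq_of_isAffine_of_isLimit D c hc y
  obtain ⟨k, fj, fi, -⟩ := IsCofilteredOrEmpty.cone_objs j i
  have key : ∀ (l m : I) (g : l ⟶ m) (s : Γ(D.obj m, ⊤)),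
      (c.π.app l).appTop ((D.map g).appTop s) = (c.π.app m).appTop s := by
    intro l m g s
    rw [← CommRingCat.comp_apply, ← Scheme.Hom.comp_appTop, c.w g]
  have h0 : (c.π.app k).appTop ((D.map fj).appTop t * (D.map fi).appTop a) = 0 := by
    rw [map_mul, key, key]; exact hy
  obtain ⟨m, g, hm⟩ := exists_appTop_map_eq_zero_of_isAffine_of_isLimit D c hc k _ h0
  rw [map_mul] at hm
  have h1 : (D.map g).appTop ((D.map fi).appTop a) = (D.map (g ≫ fi)).appTop a := by
    rw [D.map_comp, Scheme.Hom.comp_appTop]; rfl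
  rw [h1] at hm
  have h2 := mem_nonZeroDivisors_iff_right.mp (h m (g ≫ fi)) _ hm
  rw [← key k j fj t, ← key m k g, h2, map_zero]

set_option backward.isDefEq.respectTransparency false in
theorem isEffCartier_comap_π {I : Type u} [SmallCategory I] [IsCofiltered I]
    (D : I ⥤ Scheme.{u}) (c : Cone D) (hc : IsLimit c)
    [∀ (i j : I) (t : i ⟶ j), IsAffineHom (D.map t)]
    (J : ∀ i, (D.obj i).IdealSheafData) (hJ : ∀ i, BlowUp.IsEffCartierIdeal (J i))
    (hmin : ∀ (i j : I) (t : i ⟶ j), ModPair.IsMinimal (J i) (J j) (D.map t)) (i : I) :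
    BlowUp.IsEffCartierIdeal ((J i).comap (c.π.app i)) := by
  have : ∀ {i j : I} (f : i ⟶ j), IsAffineHom (D.map f) := fun f => inferInstance
  have := isAffineHom_π_app D c hc i
  intro x
  obtain ⟨U, hxU, a, -, ha⟩ := hJ i (c.π.app i x)
  refine ⟨⟨c.π.app i ⁻¹ᵁ U.1, U.2.preimage _⟩, hxU, (c.π.app i).app U.1 a, ?_, ?_⟩
  swap
  · rw [ideal_comap (J i) (c.π.app i) U ⟨_, U.2.preimage _⟩ le_rfl, ha, Ideal.map_span,
      Set.image_singleton, Scheme.Hom.app_eq_appLE]
  have (j : Over i) : IsAffine ((opensDiagram D i U.1).obj j) := U.2.preimage (D.map _)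
  let b : ∀ j : Over i, Γ((opensDiagram D i U.1).obj j, ⊤) := fun j =>
    (D.map j.hom ⁻¹ᵁ U.1).topIso.inv ((D.map j.hom).app U.1 a)
  have hb : ∀ j : Over i, b j ∈ nonZeroDivisors _ := fun j => by
    refine mem_nonZeroDivisors_map _ (ConcreteCategory.bijective_of_isIso _) ?_
    refine generator_mem_nonZeroDivisors (hJ j.left) (W := ⟨_, U.2.preimage (D.map j.hom)⟩) ?_
    rw [show J j.left = (J i).comap (D.map j.hom) from hmin _ _ j.hom,
      ideal_comap (J i) (D.map j.hom) U ⟨_, U.2.preimage _⟩ le_rfl, ha, Ideal.map_span,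
      Set.image_singleton, Scheme.Hom.app_eq_appLE]
  have hlim := nonZeroDivisor_of_isLimit (opensDiagram D i U.1) (opensCone D c i U.1)
    (isLimitOpensCone D c hc i U.1) (Over.mk (𝟙 i)) (b _) fun j f => by
    convert hb j using 1
    have hf : f.left = j.hom := by simpa using Over.w f
    dsimp [b, opensDiagram]
    rw [← CommRingCat.comp_apply, ← CommRingCat.comp_apply, ← CommRingCat.comp_apply]
    congr 2
    simp [Scheme.Hom.app_eq_appLE, Scheme.Hom.resLE_appLE, hf, Scheme.Hom.appLE_comp_appLE]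
  have := mem_nonZeroDivisors_map (c.π.app i ⁻¹ᵁ U.1).topIso.hom.hom
    (ConcreteCategory.bijective_of_isIso _) hlim
  convert this using 1
  dsimp [b, opensCone, opensDiagram]
  rw [← CommRingCat.comp_apply, ← CommRingCat.comp_apply, ← CommRingCat.comp_apply]
  congr 2
  simp [Scheme.Hom.app_eq_appLE, Scheme.Hom.resLE_appLE, Scheme.Hom.appLE_comp_appLE]

end ModPairLib
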