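import Groth.Agent.ModPairLib.MProd
import Groth.Agent.ModPairLib.Limit

/-!
# Consequences of scheme-theoretic density of the interior
-/

universe u

open CategoryTheory Limits AlgebraicGeometry

namespace ModPairLib

variable {X Y : Scheme.{u}}

theorem isEffCartier_of_le {I J : X.IdealSheafData} (hI : BlowUp.IsEffCartierIdeal I) (h : I ≤ J)
    (hJ : IsLocPrincipal J) : BlowUp.IsEffCartierIdeal J := by
  have := isAffineHom_interior (isLocPrincipal_of_isEffCartier hI)
  have := isSchemeTheoreticallyDominant_interior hI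
  exact isEffCartier_of_dense hJ _ (interior_mono h)

theorem isEffCartier_comap_of_isAmbient {I : X.IdealSheafData} {J : Y.IdealSheafData}
    (hI : BlowUp.IsEffCartierIdeal I) (hJ : BlowUp.IsEffCartierIdeal J) {f : X ⟶ Y}
    (hf : ModPair.IsAmbient I J f) : BlowUp.IsEffCartierIdeal (J.comap f) :=
  isEffCartier_of_le hI hf ((isLocPrincipal_of_isEffCartier hJ).comap f)

theorem isSchemeTheoreticallyDominant_homOfLE (U W : X.Opens) [IsSchemeTheoreticallyDominant U.ι]
    [QuasiCompact U.ι] :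
    IsSchemeTheoreticallyDominant (X.homOfLE (inf_le_right : U ⊓ W ≤ W)) := by
  have sq : IsPullback (X.homOfLE (inf_le_left : U ⊓ W ≤ U))
      (X.homOfLE (inf_le_right : U ⊓ W ≤ W)) U.ι W.ι := by
    refine (IsOpenImmersion.isPullback _ _ _ _ ?_ ?_).flip
    · simp
    · ext z
      constructor
      · rintro ⟨w, hw⟩
        have hzW : z.1 ∈ W := by
          rw [show z.1 = w.1 from hw.symm]; exact w.2
        exact ⟨⟨z.1, z.2, hzW⟩, Subtype.ext (by simp)⟩
      · rintro ⟨w, rfl⟩
        exact ⟨⟨w.1, w.2.2⟩, by simp⟩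
  exact IsSchemeTheoreticallyDominant.of_isPullback sq

theorem isSchemeTheoreticallyDominant_mono {U V : X.Opens} (h : U ≤ V)
    [IsSchemeTheoreticallyDominant U.ι] : IsSchemeTheoreticallyDominant V.ι :=
  ⟨le_bot_iff.mp (calc
    V.ι.ker ≤ (X.homOfLE h ≫ V.ι).ker := Scheme.Hom.le_ker_comp _ _
    _ = ⊥ := by rw [Scheme.homOfLE_ι, U.ι.ker_eq_bot])⟩

theorem isSchemeTheoreticallyDominant_inf (U W : X.Opens) [IsSchemeTheoreticallyDominant U.ι]
    [IsSchemeTheoreticallyDominant W.ι] [QuasiCompact U.ι] :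
    IsSchemeTheoreticallyDominant (U ⊓ W).ι := by
  have := isSchemeTheoreticallyDominant_homOfLE U W
  rw [← X.homOfLE_ι (inf_le_right : U ⊓ W ≤ W)]
  infer_instance

theorem comap_preimage_dense (I : Y.IdealSheafData) (hI : BlowUp.IsEffCartierIdeal I)
    (f : X ⟶ Y) [IsSchemeTheoreticallyDominant (f ⁻¹ᵁ ModPair.interior I).ι] :
    (∀ W : X.Opens, IsSchemeTheoreticallyDominant
        (X.homOfLE (inf_le_right : f ⁻¹ᵁ ModPair.interior I ⊓ W ≤ W))) ∧
      BlowUp.IsEffCartierIdeal (I.comap f) := by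
  have : IsAffineHom (f ⁻¹ᵁ ModPair.interior I).ι := by
    rw [preimage_interior]
    exact isAffineHom_interior ((isLocPrincipal_of_isEffCartier hI).comap f)
  exact ⟨fun W => isSchemeTheoreticallyDominant_homOfLE _ W,
    isEffCartier_of_dense ((isLocPrincipal_of_isEffCartier hI).comap f) _
      (le_of_eq (preimage_interior I f))⟩

variable {S T : Scheme.{u}} {IS : S.IdealSheafData} {IT : T.IdealSheafData}
  {IX : X.IdealSheafData}

theorem isIso_mprodι_of_dominant {p : X ⟶ S} {f : T ⟶ S}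
    [IsSchemeTheoreticallyDominant (ModPair.prodInterior p f IX IT).ι] :
    IsIso (ModPair.mprodι p f IX IT) := by
  rw [Scheme.isIso_subschemeι_iff_eq_bot]
  exact (ModPair.prodInterior p f IX IT).ι.ker_eq_bot

theorem prodInterior_eq_fst {p : X ⟶ S} {f : T ⟶ S} (hp : ModPair.IsAmbient IX IS p)
    (hf : ModPair.IsMinimal IT IS f) :
    ModPair.prodInterior p f IX IT = pullback.fst p f ⁻¹ᵁ ModPair.interior IX := by
  refine inf_eq_left.mpr fun z hz => ?_
  show pullback.snd p f z ∈ ModPair.interior IT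
  rw [show IT = IS.comap f from hf, ← preimage_interior]
  show f (pullback.snd p f z) ∈ ModPair.interior IS
  rw [← Scheme.Hom.comp_apply, ← pullback.condition]
  exact IsAmbient.interior_le hp hz

theorem minimal_flat (hX : BlowUp.IsEffCartierIdeal IX) (p : X ⟶ S)
    (hp : ModPair.IsAmbient IX IS p) (f : T ⟶ S) (hf : ModPair.IsMinimal IT IS f) [Flat f] :
    IsSchemeTheoreticallyDominant (ModPair.prodInterior p f IX IT).ι ∧
      IsIso (ModPair.mprodι p f IX IT) ∧
      BlowUp.IsEffCartierIdeal (IX.comap (pullback.fst p f)) := by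
  have := isAffineHom_interior (isLocPrincipal_of_isEffCartier hX)
  have := isSchemeTheoreticallyDominant_interior hX
  have h1 : IsSchemeTheoreticallyDominant (pullback.fst p f ⁻¹ᵁ ModPair.interior IX).ι :=
    IsSchemeTheoreticallyDominant.of_isPullback
      (isPullback_morphismRestrict (pullback.fst p f) (ModPair.interior IX))
  have h2 : IsSchemeTheoreticallyDominant (ModPair.prodInterior p f IX IT).ι :=
    (prodInterior_eq_fst hp hf).symm ▸ h1
  exact ⟨h2, isIso_mprodι_of_dominant, (comap_preimage_dense IX hX _).2⟩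

theorem both_cartier (hS : BlowUp.IsEffCartierIdeal IS) (f : X ⟶ S) (g : T ⟶ S)
    (hf : ModPair.IsAmbient IX IS f)
    (h₁ : BlowUp.IsEffCartierIdeal (IX.comap (pullback.fst f g)))
    (h₂ : BlowUp.IsEffCartierIdeal (IT.comap (pullback.snd f g))) :
    BlowUp.IsEffCartierIdeal (IS.comap (pullback.fst f g ≫ f)) ∧
      IsIso (ModPair.mprodι f g IX IT) := by
  refine ⟨isEffCartier_of_le h₁ ?_ ((isLocPrincipal_of_isEffCartier hS).comap _), ?_⟩
  · rw [Scheme.IdealSheafData.comap_comp]
    exact Scheme.IdealSheafData.comap_mono _ hf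
  · have := isAffineHom_interior (isLocPrincipal_of_isEffCartier h₁)
    have := isSchemeTheoreticallyDominant_interior h₁
    have := isSchemeTheoreticallyDominant_interior h₂
    have h : IsSchemeTheoreticallyDominant (ModPair.prodInterior f g IX IT).ι := by
      have := isSchemeTheoreticallyDominant_inf (ModPair.interior (IX.comap (pullback.fst f g)))
        (ModPair.interior (IT.comap (pullback.snd f g)))
      rw [show ModPair.prodInterior f g IX IT = ModPair.interior (IX.comap (pullback.fst f g)) ⊓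
        ModPair.interior (IT.comap (pullback.snd f g)) by
          rw [← preimage_interior, ← preimage_interior]; rfl]
      exact this
    exact isIso_mprodι_of_dominant

theorem eq_top_of_eq_mul_self {I : X.IdealSheafData} (hI : BlowUp.IsEffCartierIdeal I)
    (h : I = I * I) : I = ⊤ := by
  choose U hU a ha hIa using hI
  refine Scheme.IdealSheafData.ext_of_iSup_eq_top U (eq_top_iff.mpr fun x _ =>
    TopologicalSpace.Opens.mem_iSup.mpr ⟨x, hU x⟩) fun x => ?_
  have h2 : I.ideal (U x) = I.ideal (U x) * I.ideal (U x) := by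
    conv_lhs => rw [h]
    rfl
  rw [hIa x, Ideal.span_singleton_mul_span_singleton] at h2
  obtain ⟨c, hc⟩ := Ideal.mem_span_singleton'.mp (h2 ▸ Ideal.mem_span_singleton_self (a x))
  have : (c * a x - 1) * a x = 0 := by rw [sub_mul, mul_assoc, hc, one_mul, sub_self]
  have h3 := sub_eq_zero.mp (mem_nonZeroDivisors_iff_right.mp (ha x) _ this)
  rw [hIa x, Scheme.IdealSheafData.ideal_top, Pi.top_apply, Ideal.eq_top_iff_one,
    Ideal.mem_span_singleton']
  exact ⟨c, h3⟩

theorem comap_mul_eq_top {I J : Y.IdealSheafData} (f : X ⟶ Y) (hI : I.comap f = ⊤)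
    (hJ : J.comap f = ⊤) : (I * J).comap f = ⊤ := by
  rw [← Scheme.IdealSheafData.support_eq_bot_iff] at hI hJ ⊢
  ext x
  have h1 := congrArg (fun s : TopologicalSpace.Closeds X => x ∈ (s : Set X)) hI
  have h2 := congrArg (fun s : TopologicalSpace.Closeds X => x ∈ (s : Set X)) hJ
  simp [Scheme.IdealSheafData.support_comap] at h1 h2 ⊢
  tauto

/-- The open locus where a morphism is minimal. -/
theorem minimal_of_comp {Z : Scheme.{u}} {I : X.IdealSheafData} {J : Y.IdealSheafData}
    {K : Z.IdealSheafData} (hI : BlowUp.IsEffCartierIdeal I) (hJ : BlowUp.IsEffCartierIdeal J)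
    (hK : BlowUp.IsEffCartierIdeal K) (f : X ⟶ Y) (g : Y ⟶ Z)
    (hf : ModPair.IsAmbient I J f) (hg : ModPair.IsAmbient J K g)
    (hfg : ModPair.IsMinimal I K (f ≫ g)) :
    ModPair.IsMinimal I J f ∧
      ∃ U : Y.Opens, QuasiCompact U.ι ∧ Set.range f.base ⊆ (U : Set Y) ∧
        ModPair.IsMinimal (J.comap U.ι) K (U.ι ≫ g) := by
  have hle : J.comap f ≤ (K.comap g).comap f := Scheme.IdealSheafData.comap_mono _ hg
  rw [← Scheme.IdealSheafData.comap_comp, ← show I = K.comap (f ≫ g) from hfg] at hle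
  have hmin : I = J.comap f := le_antisymm hf hle
  set L := K.comap g
  have hL : BlowUp.IsEffCartierIdeal L := isEffCartier_comap_of_isAmbient hJ hK hg
  let U : Y.Opens := ⨆ V : {V : Y.affineOpens // J.ideal V = L.ideal V}, V.1.1
  -- the locus of equality in a principal chart
  have chart : ∀ y : Y, ∃ V : Y.affineOpens, y ∈ V.1 ∧ ∃ a b c : Γ(Y, V.1),
      J.ideal V = Ideal.span {a} ∧ L.ideal V = Ideal.span {b} ∧ a = c * b ∧
        U ⊓ V.1 = Y.basicOpen c := by
    intro y
    obtain ⟨V, hV, a, -, haJ⟩ := hJ y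
    obtain ⟨W, hW, b, -, hbL⟩ := hL y
    obtain ⟨r, s, e, hyr⟩ := exists_basicOpen_le_affine_inter V.2 W.2 y ⟨hV, hW⟩
    let D : Y.affineOpens := ⟨Y.basicOpen r, V.2.basicOpen r⟩
    have hDV : D.1 ≤ V.1 := Y.basicOpen_le r
    have hDW : D.1 ≤ W.1 := e.le.trans (Y.basicOpen_le s)
    set a' := (Y.presheaf.map (homOfLE hDV).op).hom a
    set b' := (Y.presheaf.map (homOfLE hDW).op).hom b
    have ha' : J.ideal D = Ideal.span {a'} := by
      rw [← J.map_ideal hDV, haJ, Ideal.map_span, Set.image_singleton]; rfl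
    have hb' : L.ideal D = Ideal.span {b'} := by
      rw [← L.map_ideal hDW, hbL, Ideal.map_span, Set.image_singleton]; rfl
    obtain ⟨c, hc⟩ := Ideal.mem_span_singleton'.mp
      (hb' ▸ hg D (ha' ▸ Ideal.mem_span_singleton_self a'))
    refine ⟨D, hyr, a', b', c, ha', hb', hc.symm, le_antisymm ?_ ?_⟩
    · intro z ⟨hzU, hzD⟩
      obtain ⟨⟨V', hV'⟩, hzV'⟩ := TopologicalSpace.Opens.mem_iSup.mp hzU
      obtain ⟨r', s', e', hzr⟩ := exists_basicOpen_le_affine_inter D.2 V'.2 z ⟨hzD, hzV'⟩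
      let E : Y.affineOpens := ⟨Y.basicOpen r', D.2.basicOpen r'⟩
      have hED : E.1 ≤ D.1 := Y.basicOpen_le r'
      have hEV : E.1 ≤ V'.1 := e'.le.trans (Y.basicOpen_le s')
      have heq : J.ideal E = L.ideal E := by rw [← J.map_ideal hEV, ← L.map_ideal hEV, hV']
      obtain ⟨ρ, hρ⟩ : ∃ ρ, ρ = (Y.presheaf.map (homOfLE hED).op).hom := ⟨_, rfl⟩
      have hbE : L.ideal E = Ideal.span {ρ b'} := by
        rw [← L.map_ideal hED, hb', Ideal.map_span, Set.image_singleton, hρ]; rfl
      have hb0 := generator_mem_nonZeroDivisors hL hbE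
      rw [← J.map_ideal hED, ha', Ideal.map_span, Set.image_singleton, hbE] at heq
      have heq' : Ideal.span {ρ a'} = Ideal.span {ρ b'} := by rw [hρ] at heq ⊢; exact heq
      obtain ⟨d, hd⟩ := Ideal.mem_span_singleton'.mp (heq' ▸ Ideal.mem_span_singleton_self (ρ b'))
      rw [← hc, map_mul, ← mul_assoc] at hd
      have h1 : (d * ρ c - 1) * ρ b' = 0 := by rw [sub_mul, hd, one_mul, sub_self]
      have hu : IsUnit (ρ c) :=
        IsUnit.of_mul_eq_one_right d (sub_eq_zero.mp (mem_nonZeroDivisors_iff_right.mp hb0 _ h1))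
      have h2 : Y.basicOpen (ρ c) = E.1 := Y.basicOpen_of_isUnit hu
      have h3 : z ∈ Y.basicOpen (ρ c) := h2.symm ▸ hzr
      rw [hρ] at h3
      exact ((Y.basicOpen_res c _).le h3).2
    · refine le_inf ?_ (Y.basicOpen_le c)
      refine le_iSup_of_le ⟨⟨Y.basicOpen c, D.2.basicOpen c⟩, ?_⟩ le_rfl
      have hDc : Y.basicOpen c ≤ D.1 := Y.basicOpen_le c
      rw [← J.map_ideal (U := ⟨_, D.2.basicOpen c⟩) (V := D) hDc,
        ← L.map_ideal (U := ⟨_, D.2.basicOpen c⟩) (V := D) hDc, ha', hb', Ideal.map_span,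
        Ideal.map_span, Set.image_singleton, Set.image_singleton, ← hc, map_mul]
      exact Ideal.span_singleton_mul_left_unit
        (RingedSpace.isUnit_res_basicOpen Y.toRingedSpace c) _
  refine ⟨hmin, U, ?_, ?_, ?_⟩
  · have : IsAffineHom U.ι := by
      refine isAffineHom_of_forall_exists_isAffineOpen _ fun y => ?_
      obtain ⟨V, hV, a, b, c, -, -, -, he⟩ := chart y
      refine ⟨V.1, hV, V.2, ?_⟩
      rw [← U.ι.isAffineOpen_iff_of_isOpenImmersion, Scheme.Hom.image_preimage_eq_opensRange_inf,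
        Scheme.Opens.opensRange_ι, he]
      exact V.2.basicOpen c
    infer_instance
  · rintro _ ⟨x, rfl⟩
    obtain ⟨V, hV, a, b, c, ha, hb, habc, he⟩ := chart (f x)
    obtain ⟨_, ⟨W, hW, rfl⟩, hxW, hWV⟩ := X.isBasis_affineOpens.exists_subset_of_mem_open
      (show x ∈ (f ⁻¹ᵁ V.1 : Set X) from hV) (f ⁻¹ᵁ V.1).isOpen
    set φ := (f.appLE V.1 W hWV).hom
    have h1 : I.ideal ⟨W, hW⟩ = Ideal.span {φ a} := by
      rw [hmin, ideal_comap J f V ⟨W, hW⟩ hWV, ha, Ideal.map_span, Set.image_singleton]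
    have h2 : I.ideal ⟨W, hW⟩ = Ideal.span {φ b} := by
      rw [show I = L.comap f by rw [← Scheme.IdealSheafData.comap_comp]; exact hfg,
        ideal_comap L f V ⟨W, hW⟩ hWV, hb, Ideal.map_span, Set.image_singleton]
    have hb0 := generator_mem_nonZeroDivisors hI h2
    obtain ⟨d, hd⟩ := Ideal.mem_span_singleton'.mp
      (h1.symm.trans h2 ▸ Ideal.mem_span_singleton_self (φ b) : φ b ∈ Ideal.span {φ a})
    rw [habc, map_mul, ← mul_assoc] at hd
    have h3 : (d * φ c - 1) * φ b = 0 := by rw [sub_mul, hd, one_mul, sub_self]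
    have hu : IsUnit (φ c) :=
      IsUnit.of_mul_eq_one_right d (sub_eq_zero.mp (mem_nonZeroDivisors_iff_right.mp hb0 _ h3))
    have h5 : x ∈ X.basicOpen (φ c) := by rw [X.basicOpen_of_isUnit hu]; exact hxW
    rw [Scheme.basicOpen_appLE, ← he] at h5
    exact h5.2.1
  · show J.comap U.ι = K.comap (U.ι ≫ g)
    rw [Scheme.IdealSheafData.comap_comp]
    choose V hV a b c ha hb habc he using chart
    refine Scheme.IdealSheafData.ext_of_iSup_eq_top
      (fun y : U => (⟨U.ι ⁻¹ᵁ Y.basicOpen (c y.1), ((V y.1).2.basicOpen _).preimage_of_isOpenImmersion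
        U.ι (by rw [Scheme.Opens.opensRange_ι, ← he]; exact inf_le_left)⟩ :
          U.toScheme.affineOpens))
      (eq_top_iff.mpr fun z _ => TopologicalSpace.Opens.mem_iSup.mpr ⟨z, ?_⟩) fun y => ?_
    · show z.1 ∈ Y.basicOpen (c z.1)
      rw [← he]
      exact ⟨z.2, hV z.1⟩
    · have hDc : Y.basicOpen (c y.1) ≤ (V y.1).1 := Y.basicOpen_le _
      rw [ideal_comap J U.ι ⟨_, (V y.1).2.basicOpen _⟩ _ le_rfl,
        ideal_comap L U.ι ⟨_, (V y.1).2.basicOpen _⟩ _ le_rfl]
      congr 1
      rw [← J.map_ideal (U := ⟨_, (V y.1).2.basicOpen _⟩) (V := V y.1) hDc,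
        ← L.map_ideal (U := ⟨_, (V y.1).2.basicOpen _⟩) (V := V y.1) hDc, ha, hb, Ideal.map_span,
        Ideal.map_span, Set.image_singleton, Set.image_singleton, habc, map_mul]
      exact Ideal.span_singleton_mul_left_unit
        (RingedSpace.isUnit_res_basicOpen Y.toRingedSpace (c y.1)) _

end ModPairLib
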