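import Groth.Agent.ModPairLib.AmbProd
import Groth.Agent.ModPairLib.Calculus
import Mathlib.CategoryTheory.Limits.Shapes.Pullback.IsPullback.Basic
import Mathlib.CategoryTheory.Limits.Constructions.LimitsOfProductsAndEqualizers

/-!
# Finite limits in the localization at admissible blow-ups
-/

universe v₁ v₂ u₁ u₂ u

open CategoryTheory Limits AlgebraicGeometry

namespace ModPairLib

section General

variable {C : Type u₁} [Category.{v₁} C] {D : Type u₂} [Category.{v₂} D] (L : C ⥤ D)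
  (W : MorphismProperty C) [L.IsLocalization W] [W.HasRightCalculusOfFractions]

theorem exists_numerator {Z T : C} (a : L.obj Z ⟶ L.obj T) :
    ∃ (Z' : C) (r : Z' ⟶ Z) (_ : W r) (a' : Z' ⟶ T), L.map r ≫ a = L.map a' := by
  obtain ⟨φ, rfl⟩ := Localization.exists_rightFraction L W a
  exact ⟨_, φ.s, φ.hs, φ.f, φ.map_s_comp_map L _⟩

theorem exists_numerators {Z T X : C} (a : L.obj Z ⟶ L.obj T) (b : L.obj Z ⟶ L.obj X) :
    ∃ (Z' : C) (r : Z' ⟶ Z) (_ : W r) (a' : Z' ⟶ T) (b' : Z' ⟶ X),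
      L.map r ≫ a = L.map a' ∧ L.map r ≫ b = L.map b' := by
  obtain ⟨Z₁, r, hr, a', ha⟩ := exists_numerator L W a
  obtain ⟨Z₂, s, hs, b', hb⟩ := exists_numerator L W (L.map r ≫ b)
  exact ⟨Z₂, s ≫ r, W.comp_mem _ _ hs hr, s ≫ a', b',
    by rw [L.map_comp, Category.assoc, ha, ← L.map_comp],
    by rw [L.map_comp, Category.assoc, hb]⟩

theorem cancel_map {Z' Z : C} (r : Z' ⟶ Z) (hr : W r) {A : D} {a b : L.obj Z ⟶ A}
    (h : L.map r ≫ a = L.map r ≫ b) : a = b := by
  have := Localization.inverts L W r hr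
  exact (cancel_epi (L.map r)).mp h

/-- A square becomes a pullback in the localization. -/
theorem isPullback_map {Y T X P : C} (qT : Y ⟶ T) (qX : Y ⟶ X) (g : T ⟶ P) (f : X ⟶ P)
    (w : qT ≫ g = qX ≫ f)
    (hex : ∀ (Z : C) (a : Z ⟶ T) (b : Z ⟶ X), a ≫ g = b ≫ f →
      ∃ (Z' : C) (r : Z' ⟶ Z) (_ : W r) (c : Z' ⟶ Y), c ≫ qT = r ≫ a ∧ c ≫ qX = r ≫ b)
    (huniq : ∀ (Z : C) (c c' : Z ⟶ Y), c ≫ qT = c' ≫ qT → c ≫ qX = c' ≫ qX →
      ∃ (Z' : C) (r : Z' ⟶ Z) (_ : W r), r ≫ c = r ≫ c') :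
    IsPullback (L.map qT) (L.map qX) (L.map g) (L.map f) := by
  have := Localization.essSurj L W
  have hu : ∀ {Z : C} (u v : L.obj Z ⟶ L.obj Y), u ≫ L.map qT = v ≫ L.map qT →
      u ≫ L.map qX = v ≫ L.map qX → u = v := by
    intro Z u v h1 h2
    obtain ⟨Z₁, r, hr, u', v', hu', hv'⟩ := exists_numerators L W u v
    refine cancel_map L W r hr ?_
    rw [hu', hv']
    have e1 : L.map (u' ≫ qT) = L.map (v' ≫ qT) := by
      rw [L.map_comp, L.map_comp, ← hu', ← hv', Category.assoc, Category.assoc, h1]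
    have e2 : L.map (u' ≫ qX) = L.map (v' ≫ qX) := by
      rw [L.map_comp, L.map_comp, ← hu', ← hv', Category.assoc, Category.assoc, h2]
    obtain ⟨Z₂, s, hs, hs'⟩ := (W.map_eq_iff_precomp L _ _).mp e1
    have e3 : L.map ((s ≫ u') ≫ qX) = L.map ((s ≫ v') ≫ qX) := by
      rw [Category.assoc, Category.assoc, L.map_comp, L.map_comp (f := s), e2]
    obtain ⟨Z₃, t, ht, ht'⟩ := (W.map_eq_iff_precomp L _ _).mp e3
    obtain ⟨Z₄, p, hp, hp'⟩ := huniq Z₃ (t ≫ s ≫ u') (t ≫ s ≫ v')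
      (by simp only [Category.assoc, hs']) (by simpa [Category.assoc] using ht')
    have hW : W (p ≫ t ≫ s) := W.comp_mem _ _ hp (W.comp_mem _ _ ht hs)
    refine cancel_map L W _ hW ?_
    simpa only [← L.map_comp, Category.assoc] using congrArg L.map hp'
  have hl : ∀ {Z : C} (a : L.obj Z ⟶ L.obj T) (b : L.obj Z ⟶ L.obj X),
      a ≫ L.map g = b ≫ L.map f →
      ∃ u : L.obj Z ⟶ L.obj Y, u ≫ L.map qT = a ∧ u ≫ L.map qX = b := by
    intro Z a b h
    obtain ⟨Z₁, r, hr, a', b', ha, hb⟩ := exists_numerators L W a b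
    have e : L.map (a' ≫ g) = L.map (b' ≫ f) := by
      rw [L.map_comp, L.map_comp, ← ha, ← hb, Category.assoc, Category.assoc, h]
    obtain ⟨Z₂, s, hs, hs'⟩ := (W.map_eq_iff_precomp L _ _).mp e
    obtain ⟨Z₃, t, ht, c, hc1, hc2⟩ := hex Z₂ (s ≫ a') (s ≫ b') (by simpa using hs')
    have hW : W (t ≫ s ≫ r) := W.comp_mem _ _ ht (W.comp_mem _ _ hs hr)
    have := Localization.inverts L W _ hW
    refine ⟨inv (L.map (t ≫ s ≫ r)) ≫ L.map c, ?_, ?_⟩
    · rw [Category.assoc, IsIso.inv_comp_eq, ← L.map_comp, hc1]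
      simp only [L.map_comp, Category.assoc, ha]
    · rw [Category.assoc, IsIso.inv_comp_eq, ← L.map_comp, hc2]
      simp only [L.map_comp, Category.assoc, hb]
  refine ⟨⟨by rw [← L.map_comp, ← L.map_comp, w]⟩, ⟨PullbackCone.IsLimit.mk _
    (fun s => (L.objObjPreimageIso s.pt).inv ≫ (hl ((L.objObjPreimageIso s.pt).hom ≫ s.fst)
      ((L.objObjPreimageIso s.pt).hom ≫ s.snd) (by simp [s.condition])).choose) ?_ ?_ ?_⟩⟩
  · intro s
    rw [Category.assoc, (hl ((L.objObjPreimageIso s.pt).hom ≫ s.fst)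
      ((L.objObjPreimageIso s.pt).hom ≫ s.snd) (by simp [s.condition])).choose_spec.1,
      Iso.inv_hom_id_assoc]
  · intro s
    rw [Category.assoc, (hl ((L.objObjPreimageIso s.pt).hom ≫ s.fst)
      ((L.objObjPreimageIso s.pt).hom ≫ s.snd) (by simp [s.condition])).choose_spec.2,
      Iso.inv_hom_id_assoc]
  · intro s m h1 h2
    rw [Iso.eq_inv_comp]
    refine hu _ _ ?_ ?_
    · rw [Category.assoc, h1, (hl ((L.objObjPreimageIso s.pt).hom ≫ s.fst)
        ((L.objObjPreimageIso s.pt).hom ≫ s.snd) (by simp [s.condition])).choose_spec.1]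
    · rw [Category.assoc, h2, (hl ((L.objObjPreimageIso s.pt).hom ≫ s.fst)
        ((L.objObjPreimageIso s.pt).hom ≫ s.snd) (by simp [s.condition])).choose_spec.2]

end General

open ModPair Groth.Agent.BlowUpLib

variable {S T X Y : Scheme.{u}} {f : X ⟶ S} {g : T ⟶ S} {I : X.IdealSheafData}
  {J : T.IdealSheafData} {π : Y ⟶ mprod f g I J} {K : Y.IdealSheafData}

/-- A compatible pair of ambient morphisms lifts to the ambient product after an admissible
blow-up. -/
theorem exists_lift_ambProd (hT : BlowUp.IsEffCartierIdeal J) (hX : BlowUp.IsEffCartierIdeal I)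
    (hY : IsAmbProd f g I J π K) (hK : BlowUp.IsEffCartierIdeal K) {Z : Scheme.{u}}
    {IZ : Z.IdealSheafData} (hZ : BlowUp.IsEffCartierIdeal IZ) {a : Z ⟶ T} {b : Z ⟶ X}
    (ha : IsAmbient IZ J a) (hb : IsAmbient IZ I b) (e : a ≫ g = b ≫ f) :
    ∃ (Z' : Scheme.{u}) (r : Z' ⟶ Z) (c : Z' ⟶ Y),
      BlowUp.IsEffCartierIdeal (IZ.comap r) ∧ IsAdmBlowup (IZ.comap r) IZ r ∧
      IsAmbient (IZ.comap r) K c ∧
      c ≫ π ≫ mprodι f g I J ≫ pullback.snd f g = r ≫ a ∧
      c ≫ π ≫ mprodι f g I J ≫ pullback.fst f g = r ≫ b := by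
  obtain ⟨c₀, hc₀⟩ := exists_lift_mprod hX hT hZ ha hb e
  set E := (prodCentre f g I J).comap c₀ with hEdef
  have hE : E = I.comap b ⊔ J.comap a := by
    rw [hEdef, comap_prodCentre, reassoc_of% hc₀, reassoc_of% hc₀, pullback.lift_fst,
      pullback.lift_snd]
  obtain ⟨Z', r, hr⟩ := exists_blowUp E
  have hft : BlowUp.IsFiniteTypeIdeal E := fun U => by
    rw [hE, Scheme.IdealSheafData.ideal_sup, Pi.sup_apply]
    exact Submodule.FG.sup (fg_of_isLocPrincipal ((isLocPrincipal_of_isEffCartier hX).comap b) U)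
      (fg_of_isLocPrincipal ((isLocPrincipal_of_isEffCartier hT).comap a) U)
  have hproper := isProper_of_isBlowUp _ hr hft
  have hle : IZ ≤ E := hE ▸ hb.trans le_sup_left
  have hIZ' : BlowUp.IsEffCartierIdeal (IZ.comap r) := isEffCartier_comap_blowUp hr hZ
  obtain ⟨c, hc, -⟩ := hY.1.2 Z' (r ≫ c₀) (by
    rw [Scheme.IdealSheafData.comap_comp]; exact hr.1)
  have hcX : c ≫ π ≫ mprodι f g I J ≫ pullback.fst f g = r ≫ b := by
    rw [reassoc_of% hc, reassoc_of% hc₀, pullback.lift_fst]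
  have hcT : c ≫ π ≫ mprodι f g I J ≫ pullback.snd f g = r ≫ a := by
    rw [reassoc_of% hc, reassoc_of% hc₀, pullback.lift_snd]
  refine ⟨Z', r, c, hIZ', ⟨rfl, hproper, isIso_restrict hr _ (interior_mono hle)⟩, ?_, hcT, hcX⟩
  set A' := I.comap (r ≫ b)
  set B' := J.comap (r ≫ a)
  have hA : IZ.comap r ≤ A' :=
    (Scheme.IdealSheafData.comap_mono r hb).trans_eq (Scheme.IdealSheafData.comap_comp _ _ _).symm
  have hB : IZ.comap r ≤ B' :=
    (Scheme.IdealSheafData.comap_mono r ha).trans_eq (Scheme.IdealSheafData.comap_comp _ _ _).symm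
  have hE' : E.comap r = A' ⊔ B' := by
    rw [hE, Scheme.IdealSheafData.comap_sup, ← Scheme.IdealSheafData.comap_comp,
      ← Scheme.IdealSheafData.comap_comp]
  have hA' : BlowUp.IsEffCartierIdeal A' :=
    isEffCartier_of_le hIZ' hA ((isLocPrincipal_of_isEffCartier hX).comap _)
  have hB' : BlowUp.IsEffCartierIdeal B' :=
    isEffCartier_of_le hIZ' hB ((isLocPrincipal_of_isEffCartier hT).comap _)
  obtain ⟨P₁, P₂, -, -, h1, h2, -, hmax⟩ := exists_coprime hA' hB' (hE' ▸ hr.1)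
  refine (hmax _ hA hB).trans_eq (eq_of_mul_eq_mul (hE' ▸ hr.1) ?_)
  have h3 := congrArg (fun L => Scheme.IdealSheafData.comap L c) hY.2
  simp only [ideal_comap_mul, ← Scheme.IdealSheafData.comap_comp] at h3
  rw [hc, Scheme.IdealSheafData.comap_comp (prodCentre f g I J) r c₀, ← hEdef, hE',
    hcX, hcT] at h3
  rw [h3]
  calc P₁ * P₂ * (A' ⊔ B') * (A' ⊔ B') = (P₁ * (A' ⊔ B')) * (P₂ * (A' ⊔ B')) := by ring
    _ = A' * B' := by rw [← h1, ← h2]

/-- Ambient morphisms into the ambient product are determined by their projections. -/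
theorem hom_ext_ambProd (hT : BlowUp.IsEffCartierIdeal J) (hX : BlowUp.IsEffCartierIdeal I)
    (hY : IsAmbProd f g I J π K) {Z : Scheme.{u}} {IZ : Z.IdealSheafData}
    (hZ : BlowUp.IsEffCartierIdeal IZ) {c c' : Z ⟶ Y} (hc : IsAmbient IZ K c)
    (h1 : c ≫ π ≫ mprodι f g I J ≫ pullback.snd f g =
      c' ≫ π ≫ mprodι f g I J ≫ pullback.snd f g)
    (h2 : c ≫ π ≫ mprodι f g I J ≫ pullback.fst f g =
      c' ≫ π ≫ mprodι f g I J ≫ pullback.fst f g) : c = c' := by
  have e : c ≫ π = c' ≫ π := by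
    rw [← cancel_mono (mprodι f g I J)]
    exact pullback.hom_ext (by simpa using h2) (by simpa using h1)
  refine isBlowUp_hom_ext hY.1 e ?_
  rw [← e, Scheme.IdealSheafData.comap_comp]
  have hKA : K ≤ (prodCentre f g I J).comap π :=
    ((ambProd_modulus hT hX hY).2.1).trans
      (by rw [comap_prodCentre]; exact le_sup_left)
  exact isEffCartier_of_le hZ (hc.trans (Scheme.IdealSheafData.comap_mono c hKA))
    ((isLocPrincipal_of_isEffCartier hY.1.1).comap c)

theorem isPullback_localization (P T X : Pair.{u}) (f : X ⟶ P) (g : T ⟶ P)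
    {Y : Scheme.{u}} {π : Y ⟶ mprod f.hom g.hom X.mod T.mod} {K : Y.IdealSheafData}
    (hY : IsAmbProd f.hom g.hom X.mod T.mod π K) (hK : BlowUp.IsEffCartierIdeal K)
    (hX : IsAmbient K X.mod (π ≫ mprodι f.hom g.hom X.mod T.mod ≫ pullback.fst f.hom g.hom))
    (hT : IsAmbient K T.mod (π ≫ mprodι f.hom g.hom X.mod T.mod ≫ pullback.snd f.hom g.hom)) :
    IsPullback
      ((Pair.admBlowup.{u}).Q.map
        (Pair.Hom.mk (P := Pair.mk Y K hK) (Q := T)
          (π ≫ mprodι f.hom g.hom X.mod T.mod ≫ pullback.snd f.hom g.hom) hT))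
      ((Pair.admBlowup.{u}).Q.map
        (Pair.Hom.mk (P := Pair.mk Y K hK) (Q := X)
          (π ≫ mprodι f.hom g.hom X.mod T.mod ≫ pullback.fst f.hom g.hom) hX))
      ((Pair.admBlowup.{u}).Q.map g) ((Pair.admBlowup.{u}).Q.map f) := by
  have := admBlowup_hasRightCalculusOfFractions.{u}
  refine isPullback_map (Pair.admBlowup.{u}).Q Pair.admBlowup _ _ g f ?_ (fun Z a b e => ?_)
    fun Z c c' h1 h2 => ?_
  · refine Pair.Hom.ext ?_
    show (π ≫ _ ≫ _) ≫ g.hom = (π ≫ _ ≫ _) ≫ f.hom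
    simp only [Category.assoc, pullback.condition]
  · obtain ⟨Z', r, c, h0, hr, hc, h1, h2⟩ := exists_lift_ambProd T.isEffCartier X.isEffCartier hY hK
      Z.isEffCartier a.cond b.cond (congrArg Pair.Hom.hom e)
    exact ⟨⟨Z', _, h0⟩, ⟨r, hr.1.le⟩, hr, ⟨c, hc⟩, Pair.Hom.ext h1, Pair.Hom.ext h2⟩
  · have := hom_ext_ambProd T.isEffCartier X.isEffCartier hY Z.isEffCartier c.cond
      (congrArg Pair.Hom.hom h1) (congrArg Pair.Hom.hom h2)
    exact ⟨Z, 𝟙 Z, MorphismProperty.id_mem _ Z, by rw [Pair.Hom.ext this]⟩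

/-- The final modulus pair. -/
noncomputable def terminalPair : Pair.{u} :=
  ⟨⊤_ Scheme.{u}, ⊤, isEffCartier_top _⟩

theorem pair_hom_terminal_eq {P : Pair.{u}} (a b : P ⟶ terminalPair) : a = b :=
  Pair.Hom.ext (terminal.hom_ext (C := Scheme.{u}) a.hom b.hom)

/-- The morphism to the final modulus pair. -/
noncomputable def toTerminalPair (P : Pair.{u}) : P ⟶ terminalPair :=
  ⟨terminal.from P.total, by
    show P.mod ≤ (⊤ : (⊤_ Scheme.{u}).IdealSheafData).comap _
    rw [Scheme.IdealSheafData.comap_top]; exact le_top⟩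

theorem hasFiniteLimits_localization :
    HasFiniteLimits (Pair.admBlowup.{u}).Localization := by
  have := admBlowup_hasRightCalculusOfFractions.{u}
  set L := (Pair.admBlowup.{u}).Q
  have := Localization.essSurj L Pair.admBlowup
  have hterm : ∀ {A : (Pair.admBlowup.{u}).Localization} (u v : A ⟶ L.obj terminalPair), u = v := by
    intro A u v
    rw [← cancel_epi (L.objObjPreimageIso A).hom]
    obtain ⟨Z, r, hr, u', v', hu, hv⟩ := exists_numerators L Pair.admBlowup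
      ((L.objObjPreimageIso A).hom ≫ u) ((L.objObjPreimageIso A).hom ≫ v)
    refine cancel_map L Pair.admBlowup r hr ?_
    rw [hu, hv, pair_hom_terminal_eq u' v']
  have : HasTerminal (Pair.admBlowup.{u}).Localization :=
    (IsTerminal.ofUniqueHom (fun A => (L.objObjPreimageIso A).inv ≫ L.map (toTerminalPair _))
      (fun _ _ => hterm _ _)).hasTerminal
  have : HasPullbacks (Pair.admBlowup.{u}).Localization := by
    suffices H : ∀ {A B C : (Pair.admBlowup.{u}).Localization} (f' : A ⟶ C) (g' : B ⟶ C),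
        HasLimit (cospan f' g') from ⟨fun F => by
      have := H (F.map WalkingCospan.Hom.inl) (F.map WalkingCospan.Hom.inr)
      exact hasLimit_of_iso (diagramIsoCospan F).symm⟩
    intro A B C f' g'
    obtain ⟨X, r, hr, f, hf⟩ := exists_numerator L Pair.admBlowup
      ((L.objObjPreimageIso A).hom ≫ f' ≫ (L.objObjPreimageIso C).inv)
    obtain ⟨T, s, hs, g, hg⟩ := exists_numerator L Pair.admBlowup
      ((L.objObjPreimageIso B).hom ≫ g' ≫ (L.objObjPreimageIso C).inv)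
    have := Localization.inverts L Pair.admBlowup r hr
    have := Localization.inverts L Pair.admBlowup s hs
    obtain ⟨Y, π, K, hY⟩ := exists_ambProd f.hom g.hom X.mod T.mod
    obtain ⟨hK, hX, hT, -⟩ := ambProd_modulus T.isEffCartier X.isEffCartier hY
    have : HasLimit (cospan (L.map f) (L.map g)) :=
      (isPullback_localization _ T X f g hY hK hX hT).flip.hasPullback
    refine hasLimit_of_iso (cospanExt (asIso (L.map r) ≪≫ L.objObjPreimageIso A)
      (asIso (L.map s) ≪≫ L.objObjPreimageIso B) (L.objObjPreimageIso C) ?_ ?_ :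
        cospan (L.map f) (L.map g) ≅ cospan f' g')
    · rw [← hf]; simp
    · rw [← hg]; simp
  exact hasFiniteLimits_of_hasTerminal_and_pullbacks

end ModPairLib
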