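import Groth.Agent.ModPairLib.BlowUp
import Groth.Agent.BlowUpLib.Glue

/-!
# Ambient products exist and are functorial
-/

universe u

open CategoryTheory Limits AlgebraicGeometry ModPair Groth.Agent.BlowUpLib

namespace ModPairLib

variable {S T X : Scheme.{u}} {f : X ⟶ S} {g : T ⟶ S} {I : X.IdealSheafData} {J : T.IdealSheafData}

theorem isFiniteType_prodCentre (hX : BlowUp.IsEffCartierIdeal I)
    (hT : BlowUp.IsEffCartierIdeal J) : BlowUp.IsFiniteTypeIdeal (prodCentre f g I J) := fun U => by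
  rw [prodCentre, Scheme.IdealSheafData.ideal_sup, Pi.sup_apply]
  exact Submodule.FG.sup (fg_of_isLocPrincipal ((isLocPrincipal_of_isEffCartier hX).comap _) U)
    (fg_of_isLocPrincipal ((isLocPrincipal_of_isEffCartier hT).comap _) U)

theorem exists_ambProd (f : X ⟶ S) (g : T ⟶ S) (I : X.IdealSheafData) (J : T.IdealSheafData) :
    ∃ (Y : Scheme.{u}) (π : Y ⟶ mprod f g I J) (K : Y.IdealSheafData),
      IsAmbProd f g I J π K := by
  obtain ⟨Y, π, hπ⟩ := exists_blowUp (prodCentre f g I J)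
  refine ⟨Y, π, colon ((I.comap (mprodι f g I J ≫ pullback.fst f g)).comap π *
    (J.comap (mprodι f g I J ≫ pullback.snd f g)).comap π) _
      (isLocPrincipal_of_isEffCartier hπ.1), hπ, colon_mul hπ.1 ?_⟩
  refine le_trans ?_ (Scheme.IdealSheafData.comap_mono π
    (le_sup_left : I.comap (mprodι f g I J ≫ pullback.fst f g) ≤ prodCentre f g I J))
  exact fun U => Ideal.mul_le_left

theorem comap_prodCentre {Y : Scheme.{u}} (h : Y ⟶ mprod f g I J) :
    (prodCentre f g I J).comap h = I.comap (h ≫ mprodι f g I J ≫ pullback.fst f g) ⊔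
      J.comap (h ≫ mprodι f g I J ≫ pullback.snd f g) := by
  rw [prodCentre, Scheme.IdealSheafData.comap_sup, ← Scheme.IdealSheafData.comap_comp,
    ← Scheme.IdealSheafData.comap_comp]

theorem ambProd_properties (hT : BlowUp.IsEffCartierIdeal J) (hX : BlowUp.IsEffCartierIdeal I)
    {Y : Scheme.{u}} {π : Y ⟶ mprod f g I J} {K : Y.IdealSheafData}
    (hY : IsAmbProd f g I J π K) :
    ((LocallyOfFiniteType f ∧ QuasiCompact f) →
        LocallyOfFiniteType (π ≫ mprodι f g I J ≫ pullback.snd f g) ∧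
          QuasiCompact (π ≫ mprodι f g I J ≫ pullback.snd f g)) ∧
      (UniversallyClosed f → UniversallyClosed (π ≫ mprodι f g I J ≫ pullback.snd f g)) ∧
      (IsProper f → IsProper (π ≫ mprodι f g I J ≫ pullback.snd f g)) := by
  have := isProper_of_isBlowUp _ hY.1 (isFiniteType_prodCentre hX hT)
  exact ⟨fun ⟨_, _⟩ => ⟨inferInstance, inferInstance⟩, fun _ => inferInstance,
    fun _ => inferInstance⟩

theorem ambProd_functorial {S₀ S₁ Y₁ Y₀ : Scheme.{u}} (hT : BlowUp.IsEffCartierIdeal J)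
    (hX : BlowUp.IsEffCartierIdeal I) (f : X ⟶ S₁) (g : T ⟶ S₁) (σ : S₁ ⟶ S₀)
    {π₁ : Y₁ ⟶ mprod f g I J} {K₁ : Y₁.IdealSheafData} (hY₁ : IsAmbProd f g I J π₁ K₁)
    {π₀ : Y₀ ⟶ mprod (f ≫ σ) (g ≫ σ) I J} {K₀ : Y₀.IdealSheafData}
    (hY₀ : IsAmbProd (f ≫ σ) (g ≫ σ) I J π₀ K₀) :
    (∃! φ : Y₁ ⟶ Y₀, φ ≫ π₀ ≫ mprodι (f ≫ σ) (g ≫ σ) I J =
        π₁ ≫ mprodι f g I J ≫ pullback.mapDesc f g σ) ∧
      ∀ φ : Y₁ ⟶ Y₀, φ ≫ π₀ ≫ mprodι (f ≫ σ) (g ≫ σ) I J =
          π₁ ≫ mprodι f g I J ≫ pullback.mapDesc f g σ →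
        IsMinimal K₁ K₀ φ := by
  obtain ⟨hK, hKI, hKJ, -⟩ := ambProd_modulus hT hX hY₁
  set a := π₁ ≫ mprodι f g I J ≫ pullback.snd f g with ha
  set b := π₁ ≫ mprodι f g I J ≫ pullback.fst f g with hb
  have e : a ≫ g ≫ σ = b ≫ f ≫ σ := by
    simp only [ha, hb, Category.assoc, pullback.condition_assoc]
  obtain ⟨c, hc⟩ := exists_lift_mprod (p := f ≫ σ) (f := g ≫ σ) hX hT hK hKJ hKI e
  have htarget : pullback.lift b a e.symm = π₁ ≫ mprodι f g I J ≫ pullback.mapDesc f g σ := by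
    refine pullback.hom_ext ?_ ?_
    · rw [pullback.lift_fst, Category.assoc, Category.assoc, pullback.mapDesc, pullback.lift_fst,
        Category.comp_id, hb]
    · rw [pullback.lift_snd, Category.assoc, Category.assoc, pullback.mapDesc, pullback.lift_snd,
        Category.comp_id, ha]
  have hE : (prodCentre (f ≫ σ) (g ≫ σ) I J).comap c = (prodCentre f g I J).comap π₁ := by
    rw [comap_prodCentre, comap_prodCentre, reassoc_of% hc, reassoc_of% hc, pullback.lift_fst,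
      pullback.lift_snd]
  obtain ⟨φ, hφ, hu⟩ := hY₀.1.2 _ c (hE.symm ▸ hY₁.1.1)
  have huniq : ∀ ψ : Y₁ ⟶ Y₀, ψ ≫ π₀ ≫ mprodι (f ≫ σ) (g ≫ σ) I J =
      π₁ ≫ mprodι f g I J ≫ pullback.mapDesc f g σ → ψ ≫ π₀ = c := fun ψ hψ => by
    rw [← cancel_mono (mprodι (f ≫ σ) (g ≫ σ) I J), Category.assoc, hψ, hc, htarget]
  refine ⟨⟨φ, ?_, fun ψ hψ => hu ψ (huniq ψ hψ)⟩, fun ψ hψ => ?_⟩
  · show φ ≫ _ = _
    rw [← Category.assoc, hφ, hc, htarget]
  · obtain rfl := hu ψ (huniq ψ hψ)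
    refine eq_of_mul_eq_mul hY₁.1.1 ?_
    have h2 := congrArg (fun Z => Scheme.IdealSheafData.comap Z ψ) hY₀.2
    simp only [ideal_comap_mul, ← Scheme.IdealSheafData.comap_comp] at h2
    rw [hφ, hE] at h2
    rw [h2, hY₁.2, reassoc_of% hφ, reassoc_of% hc, reassoc_of% hφ, reassoc_of% hc,
      pullback.lift_fst, pullback.lift_snd, ← Scheme.IdealSheafData.comap_comp,
      ← Scheme.IdealSheafData.comap_comp]

end ModPairLib
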