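import Groth.Agent.ModPairLib.Basic
import Mathlib.RingTheory.Ideal.MinimalPrime.Localization

/-!
# Closures of closed subschemes of the interior
-/

universe u

open CategoryTheory Limits AlgebraicGeometry

namespace ModPairLib

variable {S V : Scheme.{u}}

theorem exists_specializes_mem_interior {I : S.IdealSheafData} (h : BlowUp.IsEffCartierIdeal I)
    (x : S) : ∃ u ∈ ModPair.interior I, u ⤳ x := by
  obtain ⟨W, hW, a, ha, hI⟩ := h x
  obtain ⟨q, hq, hle⟩ := Ideal.exists_minimalPrimes_le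
    (bot_le : (⊥ : Ideal Γ(S, W.1)) ≤ (W.2.primeIdealOf ⟨x, hW⟩).asIdeal)
  have := hq.1.1
  let Q : PrimeSpectrum Γ(S, W.1) := ⟨q, hq.1.1⟩
  have haq : a ∉ q := fun hc =>
    (Set.disjoint_left.mp (Ideal.disjoint_nonZeroDivisors_of_mem_minimalPrimes hq)) hc ha
  refine ⟨W.2.fromSpec Q, ?_, ?_⟩
  · refine ((interior_inter_eq_basicOpen hI).ge ?_).2
    show Q ∈ W.2.fromSpec ⁻¹ᵁ S.basicOpen a
    rw [W.2.fromSpec_preimage_basicOpen]
    exact haq
  · have : Q ⤳ W.2.primeIdealOf ⟨x, hW⟩ := (PrimeSpectrum.le_iff_specializes _ _).mp hle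
    have h2 := this.map W.2.fromSpec.continuous
    rwa [W.2.fromSpec_primeIdealOf ⟨x, hW⟩] at h2

variable (U : S.Opens) [QuasiCompact U.ι] (g : V ⟶ (U : Scheme.{u})) [IsClosedImmersion g]

theorem toImage_preimage : (g ≫ U.ι).toImage ⁻¹ᵁ ((g ≫ U.ι).imageι ⁻¹ᵁ U) = ⊤ := by
  rw [← Scheme.Hom.comp_preimage, Scheme.Hom.toImage_imageι, Scheme.Hom.comp_preimage,
    Scheme.Opens.ι_preimage_self]
  rfl

theorem isSchemeTheoreticallyDominant_restrict {X Y : Scheme.{u}} (f : X ⟶ Y) (O : Y.Opens)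
    [IsSchemeTheoreticallyDominant f] [QuasiCompact f] : IsSchemeTheoreticallyDominant (f ∣_ O) :=
  IsSchemeTheoreticallyDominant.of_isPullback (isPullback_morphismRestrict f O).flip

theorem quasiCompact_toImage {X Y : Scheme.{u}} (f : X ⟶ Y) [QuasiCompact f] :
    QuasiCompact f.toImage := by
  have : QuasiCompact (f.toImage ≫ f.imageι) := by rwa [f.toImage_imageι]
  exact QuasiCompact.of_comp f.toImage f.imageι

/-- The closure of a closed subscheme of an open `U` meets `U` in that subscheme. -/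
theorem exists_iso_toImage :
    ∃ e : V ⟶ (((g ≫ U.ι).imageι ⁻¹ᵁ U : (g ≫ U.ι).image.Opens) : Scheme.{u}), IsIso e ∧
      e ≫ ((g ≫ U.ι).imageι ⁻¹ᵁ U).ι = (g ≫ U.ι).toImage := by
  have h1 := isSchemeTheoreticallyDominant_toImage (g ≫ U.ι)
  have h2 := quasiCompact_toImage (g ≫ U.ι)
  have ht := toImage_preimage U g
  set f := g ≫ U.ι with hf
  have h3 := isSchemeTheoreticallyDominant_restrict f.toImage (f.imageι ⁻¹ᵁ U)
  set O := f.toImage ⁻¹ᵁ (f.imageι ⁻¹ᵁ U)
  have : IsIso O.ι := by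
    rw [show O = ⊤ from ht]; exact (Scheme.topIso _).isIso_hom
  set l := f.toImage ∣_ (f.imageι ⁻¹ᵁ U)
  have hl : l ≫ (f.imageι ∣_ U) = O.ι ≫ g := by
    rw [← cancel_mono U.ι, Category.assoc, Category.assoc, morphismRestrict_ι,
      morphismRestrict_ι_assoc, f.toImage_imageι]
  have : IsClosedImmersion (l ≫ (f.imageι ∣_ U)) := by rw [hl]; infer_instance
  have : IsClosedImmersion l := IsClosedImmersion.of_comp l (f.imageι ∣_ U)
  have : IsIso l := IsClosedImmersion.isIso_iff_ker_eq_bot.mpr l.ker_eq_bot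
  refine ⟨inv O.ι ≫ l, inferInstance, ?_⟩
  rw [Category.assoc, morphismRestrict_ι, IsIso.inv_hom_id_assoc]

theorem isOpenImmersion_toImage :
    IsOpenImmersion (g ≫ U.ι).toImage ∧
      Set.range (g ≫ U.ι).toImage.base = (g ≫ U.ι).imageι.base ⁻¹' (U : Set S) := by
  obtain ⟨e, he, hfac⟩ := exists_iso_toImage U g
  rw [← hfac]
  refine ⟨inferInstance, ?_⟩
  rw [Scheme.Hom.comp_base, TopCat.coe_comp, Set.range_comp,
    Set.range_eq_univ.mpr e.surjective, Set.image_univ]
  exact Scheme.Opens.range_ι _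

theorem isEffCartier_comap_imageι {I : S.IdealSheafData} (hI : BlowUp.IsEffCartierIdeal I)
    {V : Scheme.{u}} (g : V ⟶ (ModPair.interior I : Scheme.{u})) [IsClosedImmersion g] :
    BlowUp.IsEffCartierIdeal (I.comap (g ≫ (ModPair.interior I).ι).imageι) := by
  have := isAffineHom_interior (isLocPrincipal_of_isEffCartier hI)
  have h1 := isSchemeTheoreticallyDominant_toImage (g ≫ (ModPair.interior I).ι)
  obtain ⟨e, he, hfac⟩ := exists_iso_toImage (ModPair.interior I) g
  let f := g ≫ (ModPair.interior I).ι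
  let O := f.imageι ⁻¹ᵁ ModPair.interior I
  have : QuasiCompact O.ι :=
    MorphismProperty.of_isPullback (P := @QuasiCompact)
      (isPullback_morphismRestrict f.imageι (ModPair.interior I)) inferInstance
  have : IsSchemeTheoreticallyDominant O.ι := by
    refine ⟨le_bot_iff.mp ?_⟩
    calc O.ι.ker ≤ (e ≫ O.ι).ker := Scheme.Hom.le_ker_comp _ _
      _ = ⊥ := (congrArg Scheme.Hom.ker hfac).trans f.toImage.ker_eq_bot
  exact isEffCartier_of_dense ((isLocPrincipal_of_isEffCartier hI).comap f.imageι) O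
    (preimage_interior I f.imageι).le

end ModPairLib
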