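import Mathlib.CategoryTheory.Localization.FiniteProducts
import Mathlib.CategoryTheory.Limits.HasLimits
import Mathlib.CategoryTheory.Limits.Preserves.Limits

/-!
# Finite coproducts in localized categories
-/

universe v₁ v₂ u₁ u₂ w

open CategoryTheory Limits

namespace ModPairLib.LocCoprod

variable {C : Type u₁} {D : Type u₂} [Category.{v₁} C] [Category.{v₂} D] (L : C ⥤ D)
  (W : MorphismProperty C) [L.IsLocalization W]
  (J : Type) [HasColimitsOfShape (Discrete J) C] [W.IsStableUnderColimitsOfShape (Discrete J)]

lemma inverts : (W.functorCategory (Discrete J)).IsInvertedBy (colim ⋙ L) :=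
  fun _ _ f hf => Localization.inverts L W _ (MorphismProperty.colimMap f hf)

variable [W.ContainsIdentities] [Finite J]

noncomputable abbrev colimitFunctor : (Discrete J ⥤ D) ⥤ D :=
  Localization.lift _ (inverts L W J) ((Functor.whiskeringRight (Discrete J) C D).obj L)

noncomputable def compColimitFunctorIso :
    ((Functor.whiskeringRight (Discrete J) C D).obj L) ⋙ colimitFunctor L W J ≅ colim ⋙ L :=
  Localization.fac _ _ _

instance :
    CatCommSq (Functor.const (Discrete J)) L
      ((Functor.whiskeringRight (Discrete J) C D).obj L) (Functor.const (Discrete J)) where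
  iso := (Functor.compConstIso _ _).symm

noncomputable instance :
    CatCommSq colim ((Functor.whiskeringRight (Discrete J) C D).obj L) L (colimitFunctor L W J) where
  iso := (compColimitFunctorIso L W J).symm

noncomputable def adj : colimitFunctor L W J ⊣ Functor.const _ :=
  colimConstAdj.localization ((Functor.whiskeringRight (Discrete J) C D).obj L)
    (W.functorCategory (Discrete J)) L W (colimitFunctor L W J) (Functor.const _)

lemma adj_unit_app_app (F : Discrete J ⥤ C) (j : Discrete J) :
    ((adj L W J).unit.app (F ⋙ L)).app j =
      L.map (colimit.ι F j) ≫ (compColimitFunctorIso L W J).inv.app F := by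
  have h := colimConstAdj.localization_unit_app ((Functor.whiskeringRight (Discrete J) C D).obj L)
    (W.functorCategory (Discrete J)) L W (colimitFunctor L W J) (Functor.const _) F
  refine (congrArg (fun t => NatTrans.app t j) h).trans ?_
  simp only [NatTrans.comp_app, Functor.comp_obj, Functor.whiskeringRight_obj_obj,
    Functor.whiskeringRight_obj_map, Functor.whiskerRight_app]
  dsimp [CatCommSq.iso, colimConstAdj]
  simp

noncomputable def coconeOfAdj (F : Discrete J ⥤ D) : Cocone F where
  pt := (colimitFunctor L W J).obj F
  ι := (adj L W J).unit.app F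

noncomputable def isColimitCoconeOfAdj (F : Discrete J ⥤ D) :
    IsColimit (coconeOfAdj L W J F) where
  desc s := ((adj L W J).homEquiv F s.pt).symm s.ι
  fac s j := by
    have h := congrArg (fun t => NatTrans.app t j)
      (((adj L W J).homEquiv F s.pt).apply_symm_apply s.ι)
    rw [Adjunction.homEquiv_unit] at h
    exact h
  uniq s m hm := by
    refine ((adj L W J).homEquiv F s.pt).injective ?_
    rw [Equiv.apply_symm_apply, Adjunction.homEquiv_unit]
    ext j
    exact hm j

noncomputable def isColimitMapCocone (F : Discrete J ⥤ C) :
    IsColimit (L.mapCocone (colimit.cocone F)) :=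
  IsColimit.ofIsoColimit (isColimitCoconeOfAdj L W J (F ⋙ L))
    (Cocone.ext ((compColimitFunctorIso L W J).app F) (fun j => by
      show ((adj L W J).unit.app (F ⋙ L)).app j ≫ (compColimitFunctorIso L W J).hom.app F =
        L.map (colimit.ι F j)
      rw [adj_unit_app_app, Category.assoc, Iso.inv_hom_id_app]
      exact Category.comp_id _))

include L W in
theorem hasColimitsOfShape : HasColimitsOfShape (Discrete J) D :=
  hasColimitsOfShape_iff_isRightAdjoint_const.2 (adj L W J).isRightAdjoint

include W in
theorem preservesColimitsOfShape : PreservesColimitsOfShape (Discrete J) L where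
  preservesColimit {F} := preservesColimit_of_preserves_colimit_cocone (colimit.isColimit F)
    (isColimitMapCocone L W J F)

end ModPairLib.LocCoprod
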