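import Mathlib.CategoryTheory.Localization.CalculusOfFractions
import Mathlib.CategoryTheory.Comma.Over.Basic
import Mathlib.CategoryTheory.MorphismProperty.Basic
import Mathlib.CategoryTheory.ObjectProperty.FullSubcategory

/-!
# Slices of localizations with a right calculus of fractions
-/

universe v₁ v₂ v₃ u₁ u₂ u₃

open CategoryTheory

namespace ModPairLib

variable {C : Type u₁} [Category.{v₁} C] (W : MorphismProperty C) (S : C) (P : ObjectProperty (Over S))

/-- `P` passes to sources of denominators. -/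
def ClosedUnderDenominators : Prop :=
  ∀ (X : Over S) (Z : C) (r : Z ⟶ X.left), W r → P X → P (Over.mk (r ≫ X.hom))

/-- The denominators in the slice. -/
abbrev sliceW : MorphismProperty P.FullSubcategory :=
  (W.inverseImage (Over.forget S)).inverseImage P.ι

variable {W S P} [W.HasRightCalculusOfFractions] (hP : ClosedUnderDenominators W S P)

include hP in
theorem hasRightCalculusOfFractions_slice : (sliceW W S P).HasRightCalculusOfFractions where
  id_mem X := W.id_mem X.obj.left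
  comp_mem f g hf hg := W.comp_mem _ _ hf hg
  exists_rightFraction := by
    intro X Y φ
    obtain ⟨ψ, hψ⟩ := (MorphismProperty.LeftFraction.mk φ.f.hom.left φ.s.hom.left φ.hs :
      W.LeftFraction X.obj.left Y.obj.left).exists_rightFraction
    let Z : P.FullSubcategory := ⟨Over.mk (ψ.s ≫ X.obj.hom), hP _ _ ψ.s ψ.hs X.property⟩
    let s : Z ⟶ X := ObjectProperty.homMk (Over.homMk ψ.s rfl)
    let f : Z ⟶ Y := ObjectProperty.homMk (Over.homMk ψ.f (by
      show ψ.f ≫ Y.obj.hom = ψ.s ≫ X.obj.hom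
      rw [← Over.w φ.s.hom, ← Over.w φ.f.hom, ← Category.assoc, ← Category.assoc]
      exact congrArg (· ≫ φ.Y'.obj.hom) hψ.symm))
    exact ⟨⟨s, ψ.hs, f⟩, ObjectProperty.hom_ext _ (Over.OverMorphism.ext hψ)⟩
  ext := by
    intro X Y Y' f₁ f₂ s hs h
    obtain ⟨Z, t, ht, e⟩ := MorphismProperty.HasRightCalculusOfFractions.ext f₁.hom.left f₂.hom.left
      s.hom.left hs (congrArg (fun k => k.hom.left) h)
    let Z' : P.FullSubcategory := ⟨Over.mk (t ≫ X.obj.hom), hP _ _ t ht X.property⟩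
    exact ⟨Z', ObjectProperty.homMk (Over.homMk t rfl), ht,
      ObjectProperty.hom_ext _ (Over.OverMorphism.ext e)⟩

variable {D : Type u₂} [Category.{v₂} D] (L : C ⥤ D) [L.IsLocalization W]
  {E : Type u₃} [Category.{v₃} E] (L' : P.FullSubcategory ⥤ E) [L'.IsLocalization (sliceW W S P)]
  (Φ : E ⥤ Over (L.obj S)) (e : L' ⋙ Φ ≅ P.ι ⋙ Over.post L)

include hP e in
theorem map_injective {X Y : P.FullSubcategory} (f g : X ⟶ Y)
    (h : Φ.map (L'.map f) = Φ.map (L'.map g)) : L'.map f = L'.map g := by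
  have h2 : (Over.post L).map f.hom = (Over.post L).map g.hom := by
    have n1 := e.hom.naturality f
    have n2 := e.hom.naturality g
    simp only [Functor.comp_map] at n1 n2
    rw [h, n2] at n1
    exact ((cancel_epi (e.hom.app X)).mp n1).symm
  have h3 : L.map f.hom.left = L.map g.hom.left := congrArg CommaMorphism.left h2
  obtain ⟨Z, t, ht, e'⟩ := (W.map_eq_iff_precomp L _ _).mp h3
  let Z' : P.FullSubcategory := ⟨Over.mk (t ≫ X.obj.hom), hP _ _ t ht X.property⟩
  let t' : Z' ⟶ X := ObjectProperty.homMk (Over.homMk t rfl)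
  have := Localization.inverts L' (sliceW W S P) t' ht
  rw [← cancel_epi (L'.map t'), ← L'.map_comp, ← L'.map_comp]
  exact congrArg L'.map (ObjectProperty.hom_ext _ (Over.OverMorphism.ext e'))

include hP e in
theorem faithful_slice : Φ.Faithful := by
  have := hasRightCalculusOfFractions_slice hP
  have := Localization.essSurj L' (sliceW W S P)
  refine ⟨fun {A B} u v h => ?_⟩
  suffices H : ∀ {X Y : P.FullSubcategory} (u v : L'.obj X ⟶ L'.obj Y),
      Φ.map u = Φ.map v → u = v by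
    rw [← cancel_epi (L'.objObjPreimageIso A).hom, ← cancel_mono (L'.objObjPreimageIso B).inv]
    exact H _ _ (by simp [h])
  intro X Y u v h
  obtain ⟨φ, rfl⟩ := Localization.exists_rightFraction L' (sliceW W S P) u
  obtain ⟨ψ, rfl⟩ := Localization.exists_rightFraction L' (sliceW W S P) v
  obtain ⟨χ, hχ⟩ := (MorphismProperty.LeftFraction.mk φ.s ψ.s ψ.hs :
    (sliceW W S P).LeftFraction φ.X' ψ.X').exists_rightFraction
  have := Localization.inverts L' (sliceW W S P) _ φ.hs
  have := Localization.inverts L' (sliceW W S P) _ χ.hs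
  rw [← cancel_epi (L'.map φ.s), ← cancel_epi (L'.map χ.s)]
  have e1 : L'.map χ.s ≫ L'.map φ.s ≫ φ.map L' (Localization.inverts L' _) =
      L'.map (χ.s ≫ φ.f) := by rw [φ.map_s_comp_map, ← L'.map_comp]
  have e2 : L'.map χ.s ≫ L'.map φ.s ≫ ψ.map L' (Localization.inverts L' _) =
      L'.map (χ.f ≫ ψ.f) := by
    rw [← Category.assoc, ← L'.map_comp, hχ, L'.map_comp, Category.assoc, ψ.map_s_comp_map,
      ← L'.map_comp]
  rw [e1, e2]
  refine map_injective hP L L' Φ e _ _ ?_
  rw [← e1, ← e2, Φ.map_comp, Φ.map_comp, h, ← Φ.map_comp, ← Φ.map_comp]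

include hP e in
theorem full_slice : Φ.Full := by
  have := hasRightCalculusOfFractions_slice hP
  have := Localization.essSurj L' (sliceW W S P)
  refine ⟨fun {A B} φ => ?_⟩
  suffices H : ∀ {X Y : P.FullSubcategory} (φ : Φ.obj (L'.obj X) ⟶ Φ.obj (L'.obj Y)),
      ∃ u : L'.obj X ⟶ L'.obj Y, Φ.map u = φ by
    obtain ⟨u, hu⟩ := H (Φ.map (L'.objObjPreimageIso A).hom ≫ φ ≫
      Φ.map (L'.objObjPreimageIso B).inv)
    exact ⟨(L'.objObjPreimageIso A).inv ≫ u ≫ (L'.objObjPreimageIso B).hom, by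
      rw [Φ.map_comp, Φ.map_comp, hu]; simp⟩
  intro X Y φ
  set ψ := e.inv.app X ≫ φ ≫ e.hom.app Y with hψ
  obtain ⟨χ, hχ⟩ := Localization.exists_rightFraction L W
    (ψ.left : L.obj X.obj.left ⟶ L.obj Y.obj.left)
  have := Localization.inverts L W _ χ.hs
  have h1 : L.map (χ.f ≫ Y.obj.hom) = L.map (χ.s ≫ X.obj.hom) := by
    have hw := Over.w ψ
    change ψ.left ≫ L.map Y.obj.hom = L.map X.obj.hom at hw
    rw [L.map_comp, L.map_comp, ← hw, hχ]
    exact (congrArg (· ≫ L.map Y.obj.hom) (χ.map_s_comp_map L _)).symm.trans (Category.assoc _ _ _)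
  obtain ⟨Z, t, ht, e'⟩ := (W.map_eq_iff_precomp L _ _).mp h1
  let Z' : P.FullSubcategory :=
    ⟨Over.mk ((t ≫ χ.s) ≫ X.obj.hom), hP _ _ _ (W.comp_mem _ _ ht χ.hs) X.property⟩
  let s' : Z' ⟶ X := ObjectProperty.homMk (Over.homMk (t ≫ χ.s) rfl)
  let f' : Z' ⟶ Y := ObjectProperty.homMk (Over.homMk (t ≫ χ.f) (by
    show (t ≫ χ.f) ≫ Y.obj.hom = (t ≫ χ.s) ≫ X.obj.hom
    rw [Category.assoc, Category.assoc, e']))
  have hs' : sliceW W S P s' := W.comp_mem _ _ ht χ.hs
  have := Localization.inverts L' (sliceW W S P) s' hs'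
  refine ⟨inv (L'.map s') ≫ L'.map f', ?_⟩
  rw [Φ.map_comp, Functor.map_inv, IsIso.inv_comp_eq]
  have n1 := e.hom.naturality f'
  have n2 := e.hom.naturality s'
  simp only [Functor.comp_map] at n1 n2
  rw [← cancel_mono (e.hom.app Y)]
  refine (n1.trans ?_).trans (Category.assoc _ _ _).symm
  have e3 : (Over.post L).map f'.hom = (Over.post L).map s'.hom ≫ ψ := by
    refine Over.OverMorphism.ext ?_
    show L.map (t ≫ χ.f) = L.map (t ≫ χ.s) ≫ ψ.left
    rw [hχ, L.map_comp, L.map_comp, Category.assoc]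
    exact congrArg (L.map t ≫ ·) (χ.map_s_comp_map L _).symm
  show e.hom.app Z' ≫ (Over.post L).map f'.hom = _
  rw [e3, hψ, ← Category.assoc, ← Category.assoc]
  erw [← n2]
  simp

include hP e in
theorem essSurj_slice (hall : ∀ X, P X) : Φ.EssSurj := by
  have := Localization.essSurj L W
  refine ⟨fun A => ?_⟩
  obtain ⟨χ, hχ⟩ := Localization.exists_rightFraction L W
    ((L.objObjPreimageIso A.left).hom ≫ A.hom)
  have := Localization.inverts L W _ χ.hs
  let X : P.FullSubcategory := ⟨Over.mk χ.f, hall _⟩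
  refine ⟨L'.obj X, ⟨(e.app X).trans
    (Over.isoMk (Localization.isoOfHom L W χ.s χ.hs ≪≫ L.objObjPreimageIso A.left) ?_)⟩⟩
  show (L.map χ.s ≫ (L.objObjPreimageIso A.left).hom) ≫ A.hom = L.map χ.f
  rw [Category.assoc, hχ]
  exact χ.map_s_comp_map L _

end ModPairLib
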